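import Groth.Agent.Proet.IndAlg
import Groth.Agent.Etcore.FieldExt82
import Groth.Agent.Etcore.PullbackSys
import Groth.Agent.S0672
import Groth.Agent.S0595
import Mathlib.CategoryTheory.Presentable.Directed
import Mathlib.AlgebraicGeometry.Morphisms.Smooth

/-!
# Base change of higher direct images along ind-smooth and regular ring maps

* `IsSmLim h` : `h : X' ⟶ X` is a directed limit of smooth `X`-schemes with affine transition maps.
* `isSmLim_of_indSmooth`, `IsSmLim.of_isPullback`.
* `bcAt_of_isSmLim` (S0672) and `bcAt_of_isRegularHom` (Popescu + S0672).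
-/

set_option autoImplicit false

universe u

open CategoryTheory CategoryTheory.Limits AlgebraicGeometry Opposite

namespace Groth.Agent.Vancyc.H698.PopLim

open Groth.Agent.Etcore.FieldExt82 Groth.Agent.Proet

/-- `h : X' ⟶ X` is a directed limit of smooth `X`-schemes with affine transition morphisms. -/
def IsSmLim {X' X : Scheme.{u}} (h : X' ⟶ X) : Prop :=
  ∃ (ι : Type u) (_ : PartialOrder ι) (_ : IsDirected ι (· ≤ ·)) (_ : Nonempty ι)
    (D : ιᵒᵖ ⥤ Over X) (π : (Functor.const ιᵒᵖ).obj X' ⟶ D ⋙ Over.forget X)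
    (_ : IsLimit (Cone.mk X' π)), (∀ i, Smooth (D.obj i).hom) ∧
      (∀ ⦃a b : ιᵒᵖ⦄ (g : a ⟶ b), IsAffineHom (D.map g).left) ∧
      ∀ i, π.app i ≫ (D.obj i).hom = h

theorem isSmLim_mk {X' X : Scheme.{u}} (h : X' ⟶ X) {ι : Type u} [PartialOrder ι]
    [IsDirected ι (· ≤ ·)] [Nonempty ι] (D : ιᵒᵖ ⥤ Over X) (c : Cone (D ⋙ Over.forget X))
    (hc : IsLimit c) (e : X' ≅ c.pt) (h1 : ∀ i, Smooth (D.obj i).hom)
    (h2 : ∀ ⦃a b : ιᵒᵖ⦄ (g : a ⟶ b), IsAffineHom (D.map g).left)
    (h3 : ∀ i, e.hom ≫ c.π.app i ≫ (D.obj i).hom = h) :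
    IsSmLim h :=
  ⟨ι, inferInstance, inferInstance, inferInstance, D, (c.extend e.hom).π,
    IsLimit.ofIsoLimit hc (Cone.ext e (fun _ => rfl)).symm, h1, h2, fun i =>
      (Category.assoc _ _ _).trans (h3 i)⟩

section

variable {ι : Type u} [PartialOrder ι] {A : CommRingCat.{u}} (F : ι ⥤ Under A)

/-- The diagram of spectra. -/
noncomputable def diag : ιᵒᵖ ⥤ Over (Spec A) where
  obj i := Over.mk (Spec.map (F.obj i.unop).hom)
  map f := Over.homMk (Spec.map (F.map f.unop).right) (by
    have := Under.w (F.map f.unop)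
    dsimp only [Over.mk_left, Over.mk_hom]
    rw [← Spec.map_comp, this])
  map_id i := by
    apply Over.OverMorphism.ext
    simp
  map_comp f g := by
    apply Over.OverMorphism.ext
    simp

/-- The cone of spectra. -/
noncomputable def cone (c : Cocone F) : Cone (diag F ⋙ Over.forget (Spec A)) where
  pt := Spec c.pt.right
  π :=
    { app := fun i => Spec.map (c.ι.app i.unop).right
      naturality := fun a b f => by
        have := congrArg CommaMorphism.right (c.w f.unop)
        change 𝟙 _ ≫ Spec.map (c.ι.app b.unop).right = Spec.map (c.ι.app a.unop).right ≫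
          Spec.map (F.map f.unop).right
        rw [Category.id_comp, ← Spec.map_comp]
        exact congrArg Spec.map this.symm }

/-- The spectrum of a directed colimit is the limit of the spectra. -/
noncomputable def isLimitCone [IsDirected ι (· ≤ ·)] [Nonempty ι] {c : Cocone F}
    (hc : IsColimit c) : IsLimit (cone F c) :=
  have : PreservesColimit F (Under.forget A) := inferInstance
  have h1 : IsColimit ((Under.forget A).mapCocone c) := isColimitOfPreserves (Under.forget A) hc
  isLimitOfPreserves Scheme.Spec h1.op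

end

theorem isSmLim_of_indSmooth {A B : Type u} [CommRing A] [CommRing B] [Algebra A B]
    (h : IndAlg (fun R S => Algebra.Smooth R S) A B) :
    IsSmLim (Spec.map (CommRingCat.ofHom (algebraMap A B))) := by
  obtain ⟨J, _, _, F, c, hc, hF, ⟨e⟩⟩ := h
  obtain ⟨ι, _, _, _, G, _⟩ := IsFiltered.exists_directed J
  have hc' : IsColimit (c.whisker G) := (Functor.Final.isColimitWhiskerEquiv G c).symm hc
  refine isSmLim_mk _ (diag (G ⋙ F))
    (cone (G ⋙ F) (c.whisker G)) (isLimitCone (G ⋙ F) hc')
    (Scheme.Spec.mapIso ((Under.forget _).mapIso e).op) ?_ ?_ ?_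
  · intro i
    change Smooth (Spec.map ((G ⋙ F).obj i.unop).hom)
    rw [HasRingHomProperty.Spec_iff (P := @Smooth)]
    exact hF _
  · intro a b g
    change IsAffineHom (Spec.map _)
    infer_instance
  · intro i
    change Spec.map e.hom.right ≫ Spec.map (c.ι.app (G.obj i.unop)).right ≫
      Spec.map (F.obj (G.obj i.unop)).hom = _
    rw [← Spec.map_comp, ← Spec.map_comp]
    congr 1
    have h1 := Under.w (c.ι.app (G.obj i.unop))
    have h2 := Under.w e.hom
    rw [h1]
    exact h2

/-- Base change. -/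
theorem IsSmLim.of_isPullback {X' X Z' Z : Scheme.{u}} {h : X' ⟶ X} (H : IsSmLim h) {f : Z ⟶ X}
    {f' : Z' ⟶ X'} {h' : Z' ⟶ Z} (sq : IsPullback h' f' f h) : IsSmLim h' := by
  obtain ⟨ι, _, _, _, D, π, hc, h1, h2, h3⟩ := H
  let T : ιᵒᵖ ⥤ Scheme.{u} := D ⋙ Over.forget X
  let τ : ∀ a : ιᵒᵖ, T.obj a ⟶ X := fun a => (D.obj a).hom
  have hτ : ∀ ⦃a b : ιᵒᵖ⦄ (g : a ⟶ b), T.map g ≫ τ b = τ a := fun a b g => Over.w (D.map g)
  let D' : ιᵒᵖ ⥤ Over Z :=
    { obj := fun i => Over.mk (pullback.fst f (τ i))
      map := fun g => Over.homMk (Etcore.PullbackSys.mapp T τ hτ f g)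
        (Etcore.PullbackSys.mapp_fst T τ hτ f g)
      map_id := fun i => by
        apply Over.OverMorphism.ext
        exact (Etcore.PullbackSys.sys T τ hτ f).map_id i
      map_comp := fun a b => by
        apply Over.OverMorphism.ext
        exact (Etcore.PullbackSys.sys T τ hτ f).map_comp a b }
  let c' : Cone (D' ⋙ Over.forget Z) :=
    { pt := pullback f h
      π := { app := fun i => (Etcore.PullbackSys.cone T τ hτ f (Cone.mk X' π) h h3).π.app i
             naturality := fun a b g =>
              (Etcore.PullbackSys.cone T τ hτ f (Cone.mk X' π) h h3).π.naturality g } }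
  have hc' : IsLimit c' := Etcore.PullbackSys.isLimitCone T τ hτ f (Cone.mk X' π) h h3 hc
  refine isSmLim_mk _ D' c' hc' sq.isoPullback ?_ ?_ ?_
  · intro i
    have h4 : Smooth (τ i) := h1 i
    change Smooth (pullback.fst f (τ i))
    exact MorphismProperty.of_isPullback (P := @Smooth) (IsPullback.of_hasPullback f (τ i)).flip h4
  · intro a b g
    exact Etcore.PullbackSys.isAffineHom_mapp T τ hτ f (fun _ _ g => h2 g) g
  · intro i
    change sq.isoPullback.hom ≫ Etcore.PullbackSys.proj T τ f (Cone.mk X' π) h h3 i ≫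
      pullback.fst f (τ i) = h'
    rw [Etcore.PullbackSys.proj_fst, IsPullback.isoPullback_hom_fst]

/-- Base change for higher direct images along a directed limit of smooth schemes. -/
theorem bcAt_of_isSmLim {S S' T : Scheme.{u}} {h : S' ⟶ S} (H : IsSmLim h) (g : T ⟶ S)
    [QuasiCompact g] [QuasiSeparated g] (F : EtCoh.Ab T) (hF : EtPBC.IsTorsionInvertibleOn S F) :
    BCAt g F h := by
  intro T' g' p' hT
  obtain ⟨ι, _, _, _, D, π, hc, h1, h2, h3⟩ := H
  have k := Groth.Agent.S0672.result D h1 h2 (Cone.mk S' π) hc h h3 g g' p' hT F hF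
  exact ⟨fun q => (k q).1, (k 0).2⟩

/-- A regular homomorphism of Noetherian rings is ind-smooth. -/
theorem indSmooth_of_isRegularHom {A B : Type u} [CommRing A] [CommRing B] [Algebra A B]
    [IsNoetherianRing A] [IsNoetherianRing B] (h : CAlg.IsRegularHom A B) :
    IndAlg (fun R S => Algebra.Smooth R S) A B := by
  rw [IndAlg.indAlg_iff_factor]
  · intro Z _ _ hZ g
    obtain ⟨W, _, _, hW, u, v, huv⟩ := Groth.Agent.S0595.result A B h Z g
    exact ⟨W, inferInstance, inferInstance, u, v, hW, huv⟩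
  · intro R S _ _ _ h
    exact inferInstance

/-- Base change for higher direct images along a regular homomorphism. -/
theorem bcAt_of_isRegularHom {A B : Type u} [CommRing A] [CommRing B] [Algebra A B]
    [IsNoetherianRing A] [IsNoetherianRing B] (h : CAlg.IsRegularHom A B) {S S' T : Scheme.{u}}
    (b : S ⟶ Spec (CommRingCat.of A)) (p : S' ⟶ S) (b' : S' ⟶ Spec (CommRingCat.of B))
    (hS : IsPullback p b' b (Spec.map (CommRingCat.ofHom (algebraMap A B))))
    (g : T ⟶ S) [QuasiCompact g] [QuasiSeparated g] (F : EtCoh.Ab T)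
    (hF : EtPBC.IsTorsionInvertibleOn S F) : BCAt g F p :=
  bcAt_of_isSmLim ((isSmLim_of_indSmooth (indSmooth_of_isRegularHom h)).of_isPullback hS) g F hF

end Groth.Agent.Vancyc.H698.PopLim
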