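import Groth.Agent.Vancyc.H698.KumRing
import Mathlib.Algebra.Category.Ring.Constructions

/-!
# Factorization of an extension of strictly henselian discrete valuation rings

`exists_ram`: an injective local homomorphism `R → R'` of strictly henselian discrete valuation rings of
residue characteristic zero factors as `R → R₁ → R'` with `R₁` a discrete valuation ring, integral over
`R` with the same residue field, and `R₁ → R'` regular; moreover `Ω' = R' ⊗_{R₁} Ω` for compatible
separable closures.
-/

set_option autoImplicit false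
set_option linter.unusedSectionVars false
universe u

namespace Groth.Agent.Vancyc.H698.Ram

open TensorProduct IsLocalRing Polynomial IntermediateField CategoryTheory

open Groth.Agent.Sga4h Groth.Agent.Vancyc.H698.RegDvr Groth.Agent.Vancyc.H698.KumRing

theorem exists_lift {A B C : Type*} [CommRing A] [CommRing B] [CommRing C] (ι : B →+* C)
    (hι : Function.Injective ι) (φ : A →+* C) (h : ∀ x, φ x ∈ ι.range) : ∃ b : A →+* B, ι.comp b = φ := by
  let e : B ≃+* ι.range := RingEquiv.ofBijective ι.rangeRestrict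
    ⟨fun x y hxy => hι (congrArg Subtype.val hxy), ι.rangeRestrict_surjective⟩
  refine ⟨(e.symm : ι.range →+* B).comp (φ.codRestrict ι.range h), ?_⟩
  ext x
  have h1 : e (e.symm (φ.codRestrict ι.range h x)) = φ.codRestrict ι.range h x := e.apply_symm_apply _
  exact congrArg Subtype.val h1

/-- The pushout square given by `liftMap`. -/
theorem isPushout_of_bijective {A Ω A' Ω' : Type u} [CommRing A] [CommRing Ω] [CommRing A'] [CommRing Ω']
    [Algebra A Ω] [Algebra A A'] [Algebra A' Ω'] [Algebra Ω Ω'] [Algebra A Ω']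
    [IsScalarTower A A' Ω'] [IsScalarTower A Ω Ω'] (φ : A' ⊗[A] Ω →ₐ[A'] Ω')
    (hφ : Function.Bijective φ) (h1 : ∀ ω : Ω, φ (1 ⊗ₜ ω) = algebraMap Ω Ω' ω) :
    IsPushout (CommRingCat.ofHom (algebraMap A A')) (CommRingCat.ofHom (algebraMap A Ω))
      (CommRingCat.ofHom (algebraMap A' Ω')) (CommRingCat.ofHom (algebraMap Ω Ω')) := by
  refine (CommRingCat.isPushout_tensorProduct A A' Ω).of_iso (Iso.refl _) (Iso.refl _) (Iso.refl _)
    (RingEquiv.toCommRingCatIso (RingEquiv.ofBijective φ hφ)) ?_ ?_ ?_ ?_
  · simp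
  · simp
  · ext a
    exact (φ.commutes a)
  · ext ω
    exact h1 ω

/-- The pushout square for a weakly unramified extension. -/
theorem isPushout_of_irreducible (A K Ω A' K' Ω' : Type u) [CommRing A] [IsDomain A]
    [IsDiscreteValuationRing A] [Field K] [Algebra A K] [IsFractionRing A K] [Field Ω] [Algebra K Ω]
    [CommRing A'] [IsDomain A'] [IsDiscreteValuationRing A'] [Field K']
    [Algebra A' K'] [IsFractionRing A' K'] [Field Ω'] [Algebra K' Ω'] [Algebra A' Ω']
    [IsScalarTower A' K' Ω'] [Algebra Ω Ω'] (b : A →+* A') (c : A →+* Ω)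
    (hc : c = (algebraMap K Ω).comp (algebraMap A K))
    (hbc : (algebraMap A' Ω').comp b = (algebraMap Ω Ω').comp c)
    (hA : EtCoh.IsStrictlyHenselianLocalRing A) (hA' : EtCoh.IsStrictlyHenselianLocalRing A')
    [CharZero (ResidueField A)] [CharZero (ResidueField A')]
    [IsSepClosed Ω] [Algebra.IsIntegral K Ω] [Algebra.IsIntegral K' Ω'] {π : A} (hπ : Irreducible π)
    (hπ' : Irreducible (b π)) :
    IsPushout (CommRingCat.ofHom b) (CommRingCat.ofHom c) (CommRingCat.ofHom (algebraMap A' Ω'))
      (CommRingCat.ofHom (algebraMap Ω Ω')) := by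
  let _ : Algebra A A' := b.toAlgebra
  let _ : Algebra A Ω := c.toAlgebra
  let _ : Algebra A Ω' := ((algebraMap A' Ω').comp b).toAlgebra
  have t1 : IsScalarTower A A' Ω' := IsScalarTower.of_algebraMap_eq fun r => rfl
  have t2 : IsScalarTower A Ω Ω' := IsScalarTower.of_algebraMap_eq fun r =>
    congrArg (fun φ : A →+* Ω' => φ r) hbc
  have t3 : IsScalarTower A K Ω := IsScalarTower.of_algebraMap_eq fun r =>
    congrArg (fun φ : A →+* Ω => φ r) hc
  refine isPushout_of_bijective (liftMap A Ω A' Ω') ?_ ?_
  · exact bijective_liftMap A K Ω A' K' Ω' hA hA' hπ hπ'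
  · intro ω
    rw [liftMap_tmul, map_one, one_mul]

section

variable {R K Ω : Type u} [CommRing R] [IsDomain R] [IsDiscreteValuationRing R]
    (hR : EtCoh.IsStrictlyHenselianLocalRing R) [Field K] [Algebra R K] [IsFractionRing R K] [Field Ω]
    [Algebra K Ω] [IsSepClosure K Ω] [Algebra R Ω] [IsScalarTower R K Ω]
    {R' : Type u} [CommRing R'] [IsDomain R'] [IsDiscreteValuationRing R']
    (hR' : EtCoh.IsStrictlyHenselianLocalRing R')
    [Algebra R R'] [IsLocalHom (algebraMap R R')] (hinj : Function.Injective (algebraMap R R'))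
    [CharZero (IsLocalRing.ResidueField R)]
    {K' Ω' : Type u} [Field K'] [Algebra R' K'] [IsFractionRing R' K'] [Field Ω'] [Algebra K' Ω']
    [IsSepClosure K' Ω'] [Algebra R' Ω'] [IsScalarTower R' K' Ω'] [Algebra Ω Ω'] [Algebra R Ω']
    [IsScalarTower R Ω Ω'] [IsScalarTower R R' Ω']

include hR' hinj in
/-- A uniformizer of `R` is a power of a uniformizer of `R'`. -/
theorem exists_unif {π : R} (hπ : Irreducible π) : ∃ (e : ℕ) (π' : R'), e ≠ 0 ∧ Irreducible π' ∧
    π' ^ e = algebraMap R R' π := by
  obtain ⟨ϖ, hϖ⟩ := IsDiscreteValuationRing.exists_irreducible R'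
  have h0 : algebraMap R R' π ≠ 0 := by
    rw [map_ne_zero_iff _ hinj]
    exact hπ.ne_zero
  obtain ⟨e, u, hu⟩ := IsDiscreteValuationRing.eq_unit_mul_pow_irreducible h0 hϖ
  have he : e ≠ 0 := by
    rintro rfl
    rw [pow_zero, mul_one] at hu
    apply hπ.not_isUnit
    rw [← isUnit_map_iff (algebraMap R R'), hu]
    exact u.isUnit
  obtain ⟨h1, h2⟩ := hR'
  have hen : IsUnit (e : R') := by
    have := (isUnit_natCast (A := R) he).map (algebraMap R R')
    rwa [map_natCast] at this
  obtain ⟨v, hv⟩ := Groth.Agent.Sga4B.UnitsAway.exists_pow_eq R' e hen u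
  refine ⟨e, v * ϖ, he, (irreducible_units_mul v).mpr hϖ, ?_⟩
  rw [mul_pow, hu, hv, Units.val_pow_eq_pow_val]

/-- In a discrete valuation ring, `x ^ e = y ^ e` with `y` irreducible implies `x` irreducible. -/
theorem irreducible_of_pow_eq {A : Type*} [CommRing A] [IsDomain A] [IsDiscreteValuationRing A]
    {x y : A} (hy : Irreducible y) {e : ℕ} (he : e ≠ 0) (h : x ^ e = y ^ e) : Irreducible x := by
  have hx : x ≠ 0 := by
    rintro rfl
    rw [zero_pow he] at h
    exact hy.ne_zero (pow_eq_zero_iff he |>.1 h.symm)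
  obtain ⟨m, u, hu⟩ := IsDiscreteValuationRing.eq_unit_mul_pow_irreducible hx hy
  have h1 : Associated (y ^ (m * e)) (y ^ (1 * e)) := by
    refine ⟨u ^ e, ?_⟩
    rw [one_mul, ← h, hu, mul_pow, pow_mul, Units.val_pow_eq_pow_val, mul_comm]
  have h2 : m * e = 1 * e := by
    have h3 := (pow_dvd_pow_iff hy.ne_zero hy.not_isUnit).1 h1.dvd
    have h4 := (pow_dvd_pow_iff hy.ne_zero hy.not_isUnit).1 h1.symm.dvd
    omega
  have h5 : m = 1 := Nat.eq_of_mul_eq_mul_right (Nat.pos_of_ne_zero he) h2
  rw [hu, h5, pow_one]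
  exact (irreducible_units_mul u).mpr hy

/-- A domain integral over a strictly henselian local ring of residue characteristic zero has the same
residue field. -/
theorem exists_sub_mem {A B : Type u} [CommRing A] [CommRing B] [IsDomain B] [IsLocalRing B]
    [Algebra A B] [Algebra.IsIntegral A B] (hA : EtCoh.IsStrictlyHenselianLocalRing A)
    (hc : CharZero (@ResidueField A _ hA.1.toIsLocalRing)) (x : B) :
    ∃ r : A, x - algebraMap A B r ∈ maximalIdeal B := by
  obtain ⟨hA1, hA2⟩ := hA
  obtain ⟨h1, h2, h3⟩ := Groth.Agent.S1964.result A B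
  obtain ⟨h4, h5⟩ := h3 hA2
  let _ : Algebra (ResidueField A) (ResidueField B) := (ResidueField.map (algebraMap A B)).toAlgebra
  have h6 : IsPurelyInseparable (ResidueField A) (ResidueField B) := h5 h2
  have h7 : Algebra.IsAlgebraic (ResidueField A) (ResidueField B) := h6.isIntegral.isAlgebraic
  have h8 : Algebra.IsSeparable (ResidueField A) (ResidueField B) := inferInstance
  have h9 := IsPurelyInseparable.surjective_algebraMap_of_isSeparable (ResidueField A) (ResidueField B)
  obtain ⟨y, hy⟩ := h9 (residue B x)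
  obtain ⟨r, rfl⟩ := residue_surjective y
  refine ⟨r, ?_⟩
  rw [← residue_eq_zero_iff, map_sub, ← hy]
  exact sub_self _

include K' in
variable (R K') in
/-- Elements of `K(z)` integral over `R` are sent into `R'`. -/
theorem mem_range_of_den {π : R} (hπ : Irreducible π) {L : Type*} [Field L] [Algebra R L]
    (ι : L →+* Ω') (hι : ι.comp (algebraMap R L) = algebraMap R Ω') {z x : L} {π' : R'}
    (hz : ι z = algebraMap R' Ω' π') (hinj : Function.Injective (algebraMap R R'))
    (hx : ∃ (N : ℕ) (p : R[X]), algebraMap R L π ^ N * x = aeval z p) (hxi : IsIntegral R x) :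
    ∃ r' : R', algebraMap R' Ω' r' = ι x := by
  obtain ⟨N, p, hp⟩ := hx
  have e1 : ι (aeval z p) = algebraMap R' Ω' (aeval π' p) := by
    rw [aeval_def, aeval_def, hom_eval₂, hom_eval₂, hι, hz, ← IsScalarTower.algebraMap_eq]
  have e2 : ∀ r, ι (algebraMap R L r) = algebraMap R' Ω' (algebraMap R R' r) := fun r => by
    rw [← IsScalarTower.algebraMap_apply, ← hι]
    rfl
  have h1 : algebraMap R' Ω' (algebraMap R R' π) ^ N * ι x = algebraMap R' Ω' (aeval π' p) := by
    rw [← e1, ← hp, map_mul, map_pow, e2]
  have hinj' : Function.Injective (algebraMap R' Ω') := by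
    rw [IsScalarTower.algebraMap_eq R' K' Ω']
    exact (algebraMap K' Ω').injective.comp (IsFractionRing.injective R' K')
  have h0 : algebraMap R' Ω' (algebraMap R R' π) ≠ 0 := by
    rw [map_ne_zero_iff _ hinj', map_ne_zero_iff _ hinj]
    exact hπ.ne_zero
  have h2 : ι x = algebraMap K' Ω' (algebraMap R' K' (aeval π' p) /
      algebraMap R' K' (algebraMap R R' π) ^ N) := by
    rw [map_div₀, map_pow, ← IsScalarTower.algebraMap_apply, ← IsScalarTower.algebraMap_apply,
      eq_div_iff (pow_ne_zero N h0), ← h1, mul_comm]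
  have h3 : IsIntegral R' (ι x) := by
    have h4 : IsIntegral R (ι x) := by
      have := hxi.map_of_comp_eq (algebraMap R R) ι (by
        ext r
        simp only [RingHom.comp_apply, Algebra.algebraMap_self, RingHom.id_apply]
        rw [← hι]
        rfl)
      exact this
    exact h4.tower_top
  rw [h2] at h3 ⊢
  rw [isIntegral_algebraMap_iff (algebraMap K' Ω').injective] at h3
  obtain ⟨r', hr'⟩ := IsIntegrallyClosed.isIntegral_iff.1 h3
  exact ⟨r', by rw [← hr', ← IsScalarTower.algebraMap_apply]⟩

end

section main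

variable (R K Ω : Type u) [CommRing R] [IsDomain R] [IsDiscreteValuationRing R]
    (hR : EtCoh.IsStrictlyHenselianLocalRing R) [Field K] [Algebra R K] [IsFractionRing R K] [Field Ω]
    [Algebra K Ω] [IsSepClosure K Ω] [Algebra R Ω] [IsScalarTower R K Ω]
    (R' : Type u) [CommRing R'] [IsDomain R'] [IsDiscreteValuationRing R']
    (hR' : EtCoh.IsStrictlyHenselianLocalRing R')
    [Algebra R R'] [IsLocalHom (algebraMap R R')] (hinj : Function.Injective (algebraMap R R'))
    [CharZero (IsLocalRing.ResidueField R)]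
    (K' Ω' : Type u) [Field K'] [Algebra R' K'] [IsFractionRing R' K'] [Field Ω'] [Algebra K' Ω']
    [IsSepClosure K' Ω'] [Algebra R' Ω'] [IsScalarTower R' K' Ω'] [Algebra Ω Ω'] [Algebra R Ω']
    [IsScalarTower R Ω Ω'] [IsScalarTower R R' Ω']

include K K' hR hR' hinj in
/-- Factorization of an extension of strictly henselian discrete valuation rings of residue
characteristic zero into a totally ramified and a regular one. -/
theorem exists_ram : ∃ (R₁ : Type u) (_ : CommRing R₁) (_ : IsDomain R₁)
    (_ : IsDiscreteValuationRing R₁) (a : R →+* R₁) (b : R₁ →+* R') (c : R₁ →+* Ω),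
    b.comp a = algebraMap R R' ∧ c.comp a = algebraMap R Ω ∧
    (algebraMap R' Ω').comp b = (algebraMap Ω Ω').comp c ∧ a.IsIntegral ∧ Function.Injective a ∧
    (∀ x : R₁, ∃ r : R, x - a r ∈ maximalIdeal R₁) ∧
    (@CAlg.IsRegularHom R₁ _ R' _ b.toAlgebra) ∧
    IsPushout (CommRingCat.ofHom b) (CommRingCat.ofHom c) (CommRingCat.ofHom (algebraMap R' Ω'))
      (CommRingCat.ofHom (algebraMap Ω Ω')) := by
  obtain ⟨π, hπ⟩ := IsDiscreteValuationRing.exists_irreducible R
  obtain ⟨e, π', he, hπ', hpow⟩ := exists_unif hR' hinj hπ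
  have hsc : IsSepClosed Ω := IsSepClosure.sep_closed K
  have hsep : Algebra.IsSeparable K Ω := IsSepClosure.separable
  have hsep' : Algebra.IsSeparable K' Ω' := IsSepClosure.separable
  have hK : CharZero K := charZero_of_algebra (algebraMap R K)
  have hcΩ : CharZero Ω := charZero_of_algebra (algebraMap R Ω)
  have hinjΩ : Function.Injective (algebraMap R Ω) := by
    rw [IsScalarTower.algebraMap_eq R K Ω]
    exact (algebraMap K Ω).injective.comp (IsFractionRing.injective R K)
  have hinj' : Function.Injective (algebraMap R' Ω') := by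
    rw [IsScalarTower.algebraMap_eq R' K' Ω']
    exact (algebraMap K' Ω').injective.comp (IsFractionRing.injective R' K')
  have hπ0 : algebraMap R Ω π ≠ 0 := by
    rw [map_ne_zero_iff _ hinjΩ]
    exact hπ.ne_zero
  have hy : (algebraMap R' Ω' π') ^ e = algebraMap Ω Ω' (algebraMap R Ω π) := by
    rw [← map_pow, hpow, ← IsScalarTower.algebraMap_apply, ← IsScalarTower.algebraMap_apply]
  obtain ⟨τ, hτ, hτe⟩ := exists_root_lift (Nat.cast_ne_zero.2 he) hπ0 hy
  have hτi : IsIntegral K τ := Algebra.IsIntegral.isIntegral τ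
  let L : IntermediateField K Ω := K⟮τ⟯
  have hfd : FiniteDimensional K L := IntermediateField.adjoin.finiteDimensional hτi
  have htower : IsScalarTower R L Ω := IsScalarTower.of_algebraMap_eq fun r => by
    rw [IsScalarTower.algebraMap_apply R K Ω, IsScalarTower.algebraMap_apply R K L]
    rfl
  let z : L := AdjoinSimple.gen K τ
  have hzτ : algebraMap L Ω z = τ := AdjoinSimple.algebraMap_gen K τ
  have hz : z ^ e = algebraMap R L π := by
    apply (algebraMap L Ω).injective
    rw [map_pow, hzτ, hτe, ← IsScalarTower.algebraMap_apply]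
  have htop : K⟮z⟯ = ⊤ := by
    apply IntermediateField.map_injective L.val
    rw [IntermediateField.adjoin_map, Set.image_singleton, ← AlgHom.fieldRange_eq_map,
      IntermediateField.fieldRange_val]
    rfl
  have hrank : Module.finrank K L = e := by
    have h1 := TameExt.finrank_adjoin_root R K L he hπ hz
    rw [htop, IntermediateField.finrank_top'] at h1
    exact h1
  let R₁ := integralClosure R L
  have hD : IsDiscreteValuationRing R₁ := TameExt.isDiscreteValuationRing R K L hR
  have hS : EtCoh.IsStrictlyHenselianLocalRing R₁ := TameExt.isStrictlyHenselianLocalRing R L hR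
  have hfrac : IsFractionRing R₁ L := TameExt.isFractionRing R K L
  have hzi : IsIntegral R z := by
    refine IsIntegral.of_pow (Nat.pos_of_ne_zero he) ?_
    rw [hz]
    exact isIntegral_algebraMap
  let z₁ : R₁ := ⟨z, hzi⟩
  have hz₁e : z₁ ^ e = algebraMap R R₁ π := Subtype.ext hz
  have hz₁ : Irreducible z₁ := by
    obtain ⟨y, hy1, hy2⟩ := TameExt.exists_pow_eq_uniformizer R K L hR
      (by rw [hrank]; exact isUnit_natCast he) hπ
    rw [hrank] at hy2
    exact irreducible_of_pow_eq hy1 he (hz₁e.trans hy2.symm)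
  let ι : L →+* Ω' := (algebraMap Ω Ω').comp (algebraMap L Ω)
  have hι : ι.comp (algebraMap R L) = algebraMap R Ω' := by
    ext r
    change algebraMap Ω Ω' (algebraMap L Ω (algebraMap R L r)) = _
    rw [← IsScalarTower.algebraMap_apply R L Ω, ← IsScalarTower.algebraMap_apply R Ω Ω']
  have hιz : ι z = algebraMap R' Ω' π' := by
    change algebraMap Ω Ω' (algebraMap L Ω z) = _
    rw [hzτ, hτ]
  obtain ⟨b, hb⟩ := exists_lift (algebraMap R' Ω') hinj' (ι.comp (algebraMap R₁ L)) (fun x => by
    refine mem_range_of_den R K' hπ ι hι hιz hinj ?_ x.2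
    exact den_of_mem K hπ (Algebra.IsIntegral.isIntegral z) (by rw [htop]; trivial))
  let c : R₁ →+* Ω := (algebraMap L Ω).comp (algebraMap R₁ L)
  have hbz : b z₁ = π' := by
    apply hinj'
    have := congrArg (fun φ : R₁ →+* Ω' => φ z₁) hb
    exact this.trans hιz
  have hbc : (algebraMap R' Ω').comp b = (algebraMap Ω Ω').comp c := hb
  have hba : b.comp (algebraMap R R₁) = algebraMap R R' := by
    ext r
    apply hinj'
    have := congrArg (fun φ : R₁ →+* Ω' => φ (algebraMap R R₁ r)) hb
    refine this.trans ?_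
    rw [← IsScalarTower.algebraMap_apply, ← hι]
    rfl
  have hca : c.comp (algebraMap R R₁) = algebraMap R Ω := by
    ext r
    change algebraMap L Ω (algebraMap R L r) = _
    rw [← IsScalarTower.algebraMap_apply]
  have hbinj : Function.Injective b := by
    have h1 : Function.Injective ((algebraMap R' Ω').comp b) := by
      rw [hb]
      exact ι.injective.comp Subtype.val_injective
    exact Function.Injective.of_comp h1
  have hκ : CharZero (ResidueField R₁) :=
    charZero_of_algebra ((residue R₁).comp (algebraMap R R₁))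
  have hκ' : CharZero (ResidueField R') :=
    charZero_of_algebra ((residue R').comp (algebraMap R R'))
  refine ⟨R₁, inferInstance, inferInstance, hD, algebraMap R R₁, b, c, hba, hca, hbc, ?_, ?_, ?_, ?_, ?_⟩
  · exact algebraMap_isIntegral_iff.2 inferInstance
  · have := TameExt.faithfulSMul R K L
    exact FaithfulSMul.algebraMap_injective R R₁
  · intro x
    exact exists_sub_mem hR ‹_› x
  · let _ : Algebra R₁ R' := b.toAlgebra
    exact isRegularHom_of_irreducible hbinj hz₁ (by rw [RingHom.algebraMap_toAlgebra, hbz]; exact hπ')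
  · have hint : Algebra.IsIntegral L Ω := Algebra.IsIntegral.tower_top (R := K)
    exact isPushout_of_irreducible R₁ L Ω R' K' Ω' b c rfl hbc hS hR' hz₁ (by rw [hbz]; exact hπ')

end main

end Groth.Agent.Vancyc.H698.Ram
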