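import Groth.Prelude.Def_VanCyc
import Mathlib.AlgebraicGeometry.Morphisms.Integral
import Mathlib.AlgebraicGeometry.Morphisms.UniversallyInjective
import Mathlib.AlgebraicGeometry.Morphisms.Flat

/-!
# Geometry of a factorized change of trait

`R → R₁ → R'` (`a`, `b`), `c : R₁ → Ω`, with `Ω' = R' ⊗_{R₁} Ω`; `f : X ⟶ Spec R`.
`x1 = X ×_{Spec R} Spec R₁` with its projections `π1`, `b1`, and `p : X' ⟶ x1`, `j1 : X_Ω ⟶ x1`:
* `isPullback_p`, `isPullback_j1`, `isPullback_geomChange`;
* `surjective_q0`, `universallyInjective_q0`: over the special fibre of `X`, `π1` is a universal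
  homeomorphism if `a` is injective, integral, with trivial residue field extension.
-/

set_option autoImplicit false
set_option linter.unusedSectionVars false
universe u

open CategoryTheory CategoryTheory.Limits AlgebraicGeometry IsLocalRing

noncomputable section
namespace Groth.Agent.Vancyc.H698.TraitGeo

open VanCyc

section q0

variable {R R₁ : Type u} [CommRing R] [IsLocalRing R] [CommRing R₁] [IsLocalRing R₁] (a : R →+* R₁)
  {X : Scheme.{u}} (f : X ⟶ Spec (CommRingCat.of R))

/-- `X ×_{Spec R} Spec R₁`. -/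
abbrev x1 : Scheme.{u} := pullback f (Spec.map (CommRingCat.ofHom a))

abbrev π1 : x1 a f ⟶ X := pullback.fst f (Spec.map (CommRingCat.ofHom a))

abbrev b1 : x1 a f ⟶ Spec (CommRingCat.of R₁) := pullback.snd f (Spec.map (CommRingCat.ofHom a))

theorem isIntegralHom_π1 (ha : a.IsIntegral) : IsIntegralHom (π1 a f) := by
  have h : IsIntegralHom (Spec.map (CommRingCat.ofHom a)) := (IsIntegralHom.SpecMap_iff).2 ha
  infer_instance

theorem surjective_spec {A B : Type u} [CommRing A] [CommRing B] (φ : A →+* B) (h1 : φ.IsIntegral)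
    (h2 : Function.Injective φ) : Surjective (Spec.map (CommRingCat.ofHom φ)) := by
  constructor
  exact h1.comap_surjective h2

/-- Two homomorphisms from `R₁` to a field agreeing on `R` and killing the maximal ideal of `R` are equal. -/
theorem ringHom_ext_field {F : Type*} [Field F] (ha : a.IsIntegral)
    (hres : ∀ x : R₁, ∃ r : R, x - a r ∈ maximalIdeal R₁) (φ ψ : R₁ →+* F)
    (h : φ.comp a = ψ.comp a) (h0 : ∀ r ∈ maximalIdeal R, φ (a r) = 0) : φ = ψ := by
  have key : ∀ χ : R₁ →+* F, (∀ r ∈ maximalIdeal R, χ (a r) = 0) → ∀ x ∈ maximalIdeal R₁, χ x = 0 := by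
    intro χ hχ x hx
    let P : Ideal R₁ := RingHom.ker χ
    have hP : P.IsPrime := RingHom.ker_isPrime χ
    have h1 : (P.comap a).IsMaximal := by
      have h2 : maximalIdeal R ≤ P.comap a := fun r hr => hχ r hr
      have h3 : P.comap a ≠ ⊤ := (Ideal.IsPrime.comap a).ne_top
      rw [← (maximalIdeal.isMaximal R).eq_of_le h3 h2]
      exact maximalIdeal.isMaximal R
    have h4 : P.IsMaximal := by
      algebraize [a]
      exact Ideal.isMaximal_of_isIntegral_of_isMaximal_comap (R := R) P h1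
    have h5 : P = maximalIdeal R₁ := IsLocalRing.eq_maximalIdeal h4
    rw [← h5] at hx
    exact hx
  ext x
  obtain ⟨r, hr⟩ := hres x
  have e : ∀ s, φ (a s) = ψ (a s) := fun s => congrArg (fun χ : R →+* F => χ s) h
  have h1 := key φ h0 _ hr
  have h2 := key ψ (fun s hs => (e s).symm.trans (h0 s hs)) _ hr
  rw [map_sub, sub_eq_zero] at h1 h2
  rw [h1, h2, e]

variable {Z0 : Scheme.{u}} {r0 : Z0 ⟶ x1 a f} {q0 : Z0 ⟶ spFib R f}
  (h0 : IsPullback r0 q0 (π1 a f) (icl R f))

include h0 in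
theorem surjective_q0 (ha : a.IsIntegral) (hinj : Function.Injective a) : Surjective q0 := by
  have h1 : Surjective (Spec.map (CommRingCat.ofHom a)) := surjective_spec a ha hinj
  have h2 : Surjective (π1 a f) := inferInstance
  exact MorphismProperty.of_isPullback h0 h2

include h0 in
theorem universallyInjective_q0 (ha : a.IsIntegral)
    (hres : ∀ x : R₁, ∃ r : R, x - a r ∈ maximalIdeal R₁) : UniversallyInjective q0 := by
  refine ((tfae_universallyInjective q0).out 0 1).2 ?_
  intro F _ α β hαβ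
  dsimp only at hαβ
  refine h0.hom_ext ?_ hαβ
  have hX : (α ≫ r0) ≫ π1 a f = (β ≫ r0) ≫ π1 a f := by
    rw [Category.assoc, Category.assoc, h0.w, reassoc_of% hαβ]
  refine pullback.hom_ext hX ?_
  -- morphisms to `Spec R₁`
  obtain ⟨φ, hφ⟩ := Spec.map_surjective ((α ≫ r0) ≫ b1 a f)
  obtain ⟨ψ, hψ⟩ := Spec.map_surjective ((β ≫ r0) ≫ b1 a f)
  obtain ⟨θ, hθ⟩ := Spec.map_surjective ((α ≫ q0) ≫ spStr R f)
  have c1 : (α ≫ r0) ≫ b1 a f ≫ Spec.map (CommRingCat.ofHom a) =
      ((α ≫ q0) ≫ spStr R f) ≫ toSk R := by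
    rw [← pullback.condition, Category.assoc, Category.assoc, Category.assoc, ← pullback.condition,
      h0.w_assoc]
  have c2 : (α ≫ r0) ≫ b1 a f ≫ Spec.map (CommRingCat.ofHom a) =
      (β ≫ r0) ≫ b1 a f ≫ Spec.map (CommRingCat.ofHom a) := by
    rw [← pullback.condition]
    exact (reassoc_of% hX) f
  rw [← Category.assoc, ← Category.assoc, ← hφ, ← hψ, ← Spec.map_comp, ← Spec.map_comp] at c2
  rw [← Category.assoc, ← hφ, ← hθ, ← Spec.map_comp, ← Spec.map_comp] at c1
  have c1' := congrArg CommRingCat.Hom.hom (Spec.map_injective c1)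
  have c2' := congrArg CommRingCat.Hom.hom (Spec.map_injective c2)
  have e : φ = ψ := by
    apply CommRingCat.hom_ext
    refine ringHom_ext_field a ha hres φ.hom ψ.hom c2' ?_
    intro r hr
    have e1 : φ.hom (a r) = θ.hom (residue R r) := congrArg (fun χ : R →+* F => χ r) c1'
    rw [e1, (residue_eq_zero_iff r).2 hr, map_zero]
  change (α ≫ r0) ≫ b1 a f = (β ≫ r0) ≫ b1 a f
  rw [← hφ, ← hψ, e]

end q0

section squares

variable {R : Type u} [CommRing R] (R' : Type u) [CommRing R'] [Algebra R R']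
  (Ω Ω' : Type u) [Field Ω] [Field Ω'] [Algebra R Ω] [Algebra R' Ω'] [Algebra Ω Ω'] [Algebra R Ω']
  [IsScalarTower R Ω Ω'] [IsScalarTower R R' Ω']
  {X : Scheme.{u}} (f : X ⟶ Spec (CommRingCat.of R))
  {R₁ : Type u} [CommRing R₁] (a : R →+* R₁) (b : R₁ →+* R') (c : R₁ →+* Ω)
  (hba : b.comp a = algebraMap R R') (hca : c.comp a = algebraMap R Ω)
  (hbc : (algebraMap R' Ω').comp b = (algebraMap Ω Ω').comp c)

include hba in
theorem toS_eq : Spec.map (CommRingCat.ofHom b) ≫ Spec.map (CommRingCat.ofHom a) = toS R R' := by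
  rw [← Spec.map_comp, ← CommRingCat.ofHom_comp, hba]

include hca in
theorem toS_eq' : Spec.map (CommRingCat.ofHom c) ≫ Spec.map (CommRingCat.ofHom a) = toS R Ω := by
  rw [← Spec.map_comp, ← CommRingCat.ofHom_comp, hca]

/-- `X' ⟶ X ×_S S₁`. -/
def p : bcX R' f ⟶ pullback f (Spec.map (CommRingCat.ofHom a)) :=
  pullback.lift (bcπ R' f) (bcf R' f ≫ Spec.map (CommRingCat.ofHom b)) (by
    rw [Category.assoc, toS_eq R' a b hba, pullback.condition])

theorem p_π1 : p R' f a b hba ≫ pullback.fst f (Spec.map (CommRingCat.ofHom a)) = bcπ R' f :=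
  pullback.lift_fst _ _ _

theorem p_b1 : p R' f a b hba ≫ pullback.snd f (Spec.map (CommRingCat.ofHom a)) =
    bcf R' f ≫ Spec.map (CommRingCat.ofHom b) :=
  pullback.lift_snd _ _ _

theorem isPullback_p : IsPullback (p R' f a b hba) (bcf R' f)
    (pullback.snd f (Spec.map (CommRingCat.ofHom a))) (Spec.map (CommRingCat.ofHom b)) := by
  refine IsPullback.of_right ?_ (p_b1 R' f a b hba)
    (IsPullback.of_hasPullback f (Spec.map (CommRingCat.ofHom a)))
  rw [p_π1, toS_eq R' a b hba]
  exact IsPullback.of_hasPullback f (toS R R')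

/-- `X_Ω ⟶ X ×_S S₁`. -/
def j1 : fib R f Ω ⟶ pullback f (Spec.map (CommRingCat.ofHom a)) :=
  pullback.lift (jA R f Ω) (fibStr R f Ω ≫ Spec.map (CommRingCat.ofHom c)) (by
    rw [Category.assoc, toS_eq' Ω a c hca, pullback.condition])

theorem j1_π1 : j1 Ω f a c hca ≫ pullback.fst f (Spec.map (CommRingCat.ofHom a)) = jA R f Ω :=
  pullback.lift_fst _ _ _

theorem j1_b1 : j1 Ω f a c hca ≫ pullback.snd f (Spec.map (CommRingCat.ofHom a)) =
    fibStr R f Ω ≫ Spec.map (CommRingCat.ofHom c) :=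
  pullback.lift_snd _ _ _

theorem isPullback_j1 : IsPullback (j1 Ω f a c hca) (fibStr R f Ω)
    (pullback.snd f (Spec.map (CommRingCat.ofHom a))) (Spec.map (CommRingCat.ofHom c)) := by
  refine IsPullback.of_right ?_ (j1_b1 Ω f a c hca)
    (IsPullback.of_hasPullback f (Spec.map (CommRingCat.ofHom a)))
  rw [j1_π1, toS_eq' Ω a c hca]
  exact IsPullback.of_hasPullback f (toS R Ω)

include hbc in
theorem geomChange_j1 : geomChange R' Ω Ω' f ≫ j1 Ω f a c hca =
    jA R' (bcf R' f) Ω' ≫ p R' f a b hba := by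
  apply pullback.hom_ext
  · rw [Category.assoc, Category.assoc, j1_π1, p_π1, geomChange_jA]
  · rw [Category.assoc, Category.assoc, j1_b1, p_b1]
    have h1 : geomChange R' Ω Ω' f ≫ fibStr R f Ω = fibStr R' (bcf R' f) Ω' ≫ toS Ω Ω' := by
      simp only [geomChange, pullback.map, pullback.lift_snd]
    have h2 : toS Ω Ω' ≫ Spec.map (CommRingCat.ofHom c) = toS R' Ω' ≫ Spec.map (CommRingCat.ofHom b) := by
      rw [← Spec.map_comp, ← Spec.map_comp, ← CommRingCat.ofHom_comp, ← CommRingCat.ofHom_comp, hbc]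
    rw [reassoc_of% h1, h2, ← pullback.condition_assoc]

theorem geomChange_fibStr :  geomChange R' Ω Ω' f ≫ fibStr R f Ω = fibStr R' (bcf R' f) Ω' ≫ toS Ω Ω' := by
  simp only [geomChange, pullback.map, pullback.lift_snd]

include hbc in
theorem toS_c : toS Ω Ω' ≫ Spec.map (CommRingCat.ofHom c) = toS R' Ω' ≫ Spec.map (CommRingCat.ofHom b) := by
  rw [← Spec.map_comp, ← Spec.map_comp, ← CommRingCat.ofHom_comp, ← CommRingCat.ofHom_comp, hbc]

include hba hca hbc in
theorem isPullback_geomChange_fibStr : IsPullback (geomChange R' Ω Ω' f) (fibStr R' (bcf R' f) Ω')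
    (fibStr R f Ω) (toS Ω Ω') := by
  refine IsPullback.of_right ?_ (geomChange_fibStr R' Ω Ω' f) (isPullback_j1 Ω f a c hca)
  rw [geomChange_j1 R' Ω Ω' f a b c hba hca hbc, toS_c R' Ω Ω' b c hbc]
  exact (IsPullback.of_hasPullback (bcf R' f) (toS R' Ω')).paste_horiz (isPullback_p R' f a b hba)

include hbc in
/-- The square of geometric generic fibres over `X ×_S S₁` is cartesian. -/
theorem isPullback_geomChange (hpo : IsPushout (CommRingCat.ofHom b) (CommRingCat.ofHom c)
      (CommRingCat.ofHom (algebraMap R' Ω')) (CommRingCat.ofHom (algebraMap Ω Ω'))) :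
    IsPullback (geomChange R' Ω Ω' f) (jA R' (bcf R' f) Ω') (j1 Ω f a c hca) (p R' f a b hba) := by
  have h1 : IsPullback (toS Ω Ω') (toS R' Ω') (Spec.map (CommRingCat.ofHom c))
      (Spec.map (CommRingCat.ofHom b)) :=
    isPullback_SpecMap_of_isPushout _ _ _ _ hpo.flip
  have h2 := (isPullback_geomChange_fibStr R' Ω Ω' f a b c hba hca hbc).paste_vert h1
  rw [← pullback.condition, ← j1_b1 Ω f a c hca] at h2
  exact IsPullback.of_bot h2 (geomChange_j1 R' Ω Ω' f a b c hba hca hbc) (isPullback_p R' f a b hba)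

end squares

end Groth.Agent.Vancyc.H698.TraitGeo
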