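import Groth.Agent.Etcore.FieldExt82
import Groth.Agent.Etrest.DEtMate
import Groth.Agent.S0655

/-!
# Base change along integral morphisms after restriction to a closed fibre

* `isIso_baseChange0_of_isEquivalence`: if the vertical maps `f`, `f'` of a commutative square are
  surjective with `bc` an equivalence (universal homeomorphisms), the degree zero base change morphism is
  an isomorphism.
* `isIso_pull_baseChange0`: base change for `j = π₁ ∘ j₁` along `π = π₁ ∘ p`, after inverse image along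
  `i'`, from base change for `j₁` along `p`, `π₁` integral and a universal homeomorphism over the
  image `i` of `i'`.
-/

set_option autoImplicit false
universe u

open CategoryTheory CategoryTheory.Limits AlgebraicGeometry

noncomputable section
namespace Groth.Agent.Vancyc.H698.UHBc

open EtCoh Groth.Agent.EtpbcB.BCCalc Groth.Agent.EtpbcB.BCIso Groth.Agent.Etcore.FieldExt82
  Groth.Agent.Etrest.DEtMate

section square

variable {X Y X' Y' : Scheme.{u}} {f : X ⟶ Y} {g : Y' ⟶ Y} {f' : X' ⟶ Y'} {g' : X' ⟶ X}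

theorem isIso_baseChange0_of_isEquivalence (w : g' ≫ f = f' ≫ g) [Surjective f] [(bc f).IsEquivalence]
    [Surjective f'] [(bc f').IsEquivalence] (F : Ab X) : IsIso (baseChange0 f g f' g' w F) := by
  have : (push f).IsEquivalence := isEquivalence_push f
  have : (push f').IsEquivalence := isEquivalence_push f'
  have : (pull f).IsEquivalence := (pullPushAdj f).isEquivalence_left_of_isEquivalence_right
  have : (pull f').IsEquivalence := (pullPushAdj f').isEquivalence_left_of_isEquivalence_right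
  rw [← bcNat_app, bcNat_eq_mate, Etrest.RDer5.mate_app]
  infer_instance

theorem isIso_baseChange0_of_uh (w : g' ≫ f = f' ≫ g) [IsIntegralHom f] [UniversallyInjective f]
    [Surjective f] [IsIntegralHom f'] [UniversallyInjective f'] [Surjective f'] (F : Ab X) :
    IsIso (baseChange0 f g f' g' w F) := by
  have := Groth.Agent.S0075.result f
  have := Groth.Agent.S0075.result f'
  exact isIso_baseChange0_of_isEquivalence w F

theorem isIso_baseChange0_congr {f₂ : X ⟶ Y} {g₂ : Y' ⟶ Y} {f₂' : X' ⟶ Y'} {g₂' : X' ⟶ X}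
    (w : g' ≫ f = f' ≫ g) (w₂ : g₂' ≫ f₂ = f₂' ≫ g₂) (h1 : f = f₂) (h2 : g = g₂) (h3 : f' = f₂')
    (h4 : g' = g₂') (F : Ab X) (h : IsIso (baseChange0 f g f' g' w F)) :
    IsIso (baseChange0 f₂ g₂ f₂' g₂' w₂ F) := by
  subst h1 h2 h3 h4
  exact h

theorem isIso_pull_baseChange0_congr {Z : Scheme.{u}} (i : Z ⟶ Y') {f₂ : X ⟶ Y} {g₂ : Y' ⟶ Y}
    {f₂' : X' ⟶ Y'} {g₂' : X' ⟶ X}
    (w : g' ≫ f = f' ≫ g) (w₂ : g₂' ≫ f₂ = f₂' ≫ g₂) (h1 : f = f₂) (h2 : g = g₂) (h3 : f' = f₂')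
    (h4 : g' = g₂') (F : Ab X) (h : IsIso ((pull i).map (baseChange0 f g f' g' w F))) :
    IsIso ((pull i).map (baseChange0 f₂ g₂ f₂' g₂' w₂ F)) := by
  subst h1 h2 h3 h4
  exact h

end square

variable {X X1 Xs X' X's Z0 : Scheme.{u}} {π1 : X1 ⟶ X} [IsIntegralHom π1] {i : Xs ⟶ X}
  {q0 : Z0 ⟶ Xs} {r0 : Z0 ⟶ X1} (h0 : IsPullback r0 q0 π1 i) [UniversallyInjective q0] [Surjective q0]
  {π : X' ⟶ X} {p : X' ⟶ X1} {i' : X's ⟶ X'} {t : X's ⟶ Xs} (ht : t ≫ i = i' ≫ π)

include h0 ht in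
theorem isIso_pull_baseChange0_aux (w : p ≫ π1 = 𝟙 X' ≫ π) (H : Ab X1) :
    IsIso ((pull i').map (baseChange0 π1 π (𝟙 X') p w H)) := by
  have w0 : p ≫ π1 = π := by rw [w, Category.id_comp]
  have hi : (i' ≫ p) ≫ π1 = t ≫ i := by rw [Category.assoc, w0, ht]
  let v : X's ⟶ Z0 := h0.lift (i' ≫ p) t hi
  have hv1 : v ≫ r0 = i' ≫ p := h0.lift_fst _ _ _
  have hv2 : v ≫ q0 = t := h0.lift_snd _ _ _
  have hq0 : IsIntegralHom q0 := MorphismProperty.of_isPullback h0 ‹IsIntegralHom π1›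
  have wB : v ≫ q0 = 𝟙 X's ≫ t := by rw [hv2, Category.id_comp]
  have wAB : (v ≫ r0) ≫ π1 = 𝟙 X's ≫ (t ≫ i) := by rw [hv1, hi, Category.id_comp]
  have hA : IsIso (baseChange0 π1 i q0 r0 h0.w H) := Groth.Agent.S0655.result π1 i q0 r0 h0 H
  have hB : IsIso (baseChange0 q0 t (𝟙 X's) v wB ((pull r0).obj H)) := isIso_baseChange0_of_uh wB _
  have hAB : IsIso (baseChange0 π1 (t ≫ i) (𝟙 X's) (v ≫ r0) wAB H) :=
    isIso_hpaste h0.w wB wAB H inferInstance hB
  have wD : i' ≫ 𝟙 X' = 𝟙 X's ≫ i' := by rw [Category.id_comp, Category.comp_id]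
  have wCD : (i' ≫ p) ≫ π1 = 𝟙 X's ≫ (i' ≫ π) := by rw [Category.assoc, w0, Category.id_comp]
  have hCD : IsIso (baseChange0 π1 (i' ≫ π) (𝟙 X's) (i' ≫ p) wCD H) :=
    isIso_baseChange0_congr wAB wCD rfl ht rfl hv1 H hAB
  have hD : IsIso (baseChange0 (𝟙 X') i' (𝟙 X's) i' wD ((pull p).obj H)) :=
    isIso_baseChange0_of_uh wD _
  exact isIso_of_hpaste w wD wCD H hCD hD

variable {W W' : Scheme.{u}} {j : W ⟶ X} {j1 : W ⟶ X1} (hj : j1 ≫ π1 = j)
  (hp : p ≫ π1 = π) {j' : W' ⟶ X'} {k : W' ⟶ W}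

include h0 ht hj hp in
/-- Degree zero base change for `j = π₁ ∘ j₁` along `π = π₁ ∘ p`, restricted along `i'`. -/
theorem isIso_pull_baseChange0 (w : k ≫ j = j' ≫ π) (w₂ : k ≫ j1 = j' ≫ p) (F : Ab W)
    (h : IsIso (baseChange0 j1 p j' k w₂ F)) :
    IsIso ((pull i').map (baseChange0 j π j' k w F)) := by
  have w₁ : p ≫ π1 = 𝟙 X' ≫ π := by rw [hp, Category.id_comp]
  have w₃ : k ≫ (j1 ≫ π1) = (j' ≫ 𝟙 X') ≫ π := by rw [hj, w, Category.comp_id]
  have e := congrArg (pull i').map (baseChange0_vpaste w₁ w₂ w₃ F)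
  rw [Functor.map_comp, Functor.map_comp] at e
  have h1 : IsIso ((pull i').map (baseChange0 π1 π (𝟙 X') p w₁ ((push j1).obj F))) :=
    isIso_pull_baseChange0_aux h0 ht w₁ _
  have h2 : IsIso ((pull i').map ((pull π).map ((pushComp π1 j1).hom.app F)) ≫
      (pull i').map (baseChange0 (j1 ≫ π1) π (j' ≫ 𝟙 X') k w₃ F)) := by
    rw [e]
    infer_instance
  have h3 : IsIso ((pull i').map (baseChange0 (j1 ≫ π1) π (j' ≫ 𝟙 X') k w₃ F)) :=
    IsIso.of_isIso_comp_left ((pull i').map ((pull π).map ((pushComp π1 j1).hom.app F))) _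
  exact isIso_pull_baseChange0_congr i' w₃ w hj rfl (Category.comp_id _) rfl F h3

end Groth.Agent.Vancyc.H698.UHBc
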