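import Groth.Agent.Vancyc.H698.DerCrit
import Groth.Agent.Vancyc.H698.PopLim
import Groth.Agent.Vancyc.H698.UHBc
import Groth.Agent.Vancyc.H698.TraitGeo
import Groth.Agent.Vancyc.H698.Ram
import Groth.Agent.Etrest.DCompEt
import Groth.Agent.Etcore.Torsion
import Groth.Prelude.Def_EtBCD

/-!
# Nearby cycles and change of trait in equal characteristic zero

`isIso_pullD_bcMap`: the change of trait morphism is an isomorphism, given a factorization
`R → R₁ → R'` as in `Ram.exists_ram`.
-/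

set_option autoImplicit false
universe u

open CategoryTheory CategoryTheory.Limits AlgebraicGeometry

attribute [local instance] HasDerivedCategory.standard

noncomputable section
namespace Groth.Agent.Vancyc.H698.Main

open VanCyc Groth.Agent.Etrest Groth.Agent.Etrest.Tors Groth.Agent.Etrest.TorsEt
  Groth.Agent.Etrest.TorsCx Groth.Agent.Etrest.RDer2 Groth.Agent.Etrest.RDer3
  Groth.Agent.Etrest.RDer4 Groth.Agent.Etrest.DEtPush Groth.Agent.Etcore.FieldExt82

theorem isTorsionInvertibleOn {R : Type u} [CommRing R] (h : ∀ n : ℕ, n ≠ 0 → IsUnit (n : R))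
    {S T : Scheme.{u}} (s : S ⟶ Spec (CommRingCat.of R)) (F : EtCoh.Ab T) (hF : EtCoh.IsTorsion F) :
    EtPBC.IsTorsionInvertibleOn S F := by
  intro U t x
  obtain ⟨V, g, hV, ht⟩ := hF U t x
  rw [isOfFinAddOrder_iff_nsmul_eq_zero] at ht
  obtain ⟨n, hn, ht⟩ := ht
  refine ⟨V, g, n, hV, ?_, ht⟩
  have h1 := (h n hn.ne').map ((Scheme.ΓSpecIso (CommRingCat.of R)).inv ≫ s.appTop).hom
  rwa [map_natCast] at h1

theorem isTorsion_HDEt_single {X : Scheme.{u}} (F : EtCoh.Ab X) (hF : EtCoh.IsTorsion F) (n : ℤ) :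
    EtCoh.IsTorsion (DCoh.HDEt (EtBC.single X F) n) := by
  by_cases h : n = 0
  · subst h
    refine isTorsion_of_iso ?_ hF
    exact ((DerivedCategory.homologyFunctorFactors (EtCoh.Ab X) 0).app
      ((HomologicalComplex.single (EtCoh.Ab X) _ 0).obj F) ≪≫
      HomologicalComplex.singleObjHomologySelfIso (ComplexShape.up ℤ) 0 F).symm
  · have h1 : Limits.IsZero (DCoh.HDEt (EtBC.single X F) n) := by
      rcases lt_or_gt_of_ne h with h | h
      · exact DerivedCategory.isZero_of_isGE _ 0 n h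
      · exact DerivedCategory.isZero_of_isLE _ 0 n h
    rw [isTorsion_iff]
    exact (rat (A := EtCoh.Ab X)).map_isZero h1

/-- Acyclicity after inverse image, from base change for all higher direct images. -/
theorem isAcyc_pull_of_bcAt {X Y X' Y' : Scheme.{u}} {f : X ⟶ Y} {g : Y' ⟶ Y} {f' : X' ⟶ Y'}
    {g' : X' ⟶ X} (h : IsPullback g' f' f g) (F : EtCoh.Ab X) (hF : IsAcyc (EtCoh.push f) F)
    (hb : BCAt f F g) : IsAcyc (EtCoh.push f') ((EtCoh.pull g').obj F) := by
  intro n
  obtain ⟨e⟩ := (hb f' g' h).1 (n + 1)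
  exact ((EtCoh.pull g).map_isZero (hF n)).of_iso e.symm

section

variable (R K Ω : Type u) [CommRing R] [IsDomain R] [IsDiscreteValuationRing R]
    (hR : EtCoh.IsStrictlyHenselianLocalRing R) [Field K] [Algebra R K] [IsFractionRing R K] [Field Ω] [Algebra K Ω]
    [IsSepClosure K Ω] [Algebra R Ω] [IsScalarTower R K Ω]
    (R' : Type u) [CommRing R'] [IsDomain R'] [IsDiscreteValuationRing R'] (hR' : EtCoh.IsStrictlyHenselianLocalRing R')
    [Algebra R R'] [IsLocalHom (algebraMap R R')] (hinj : Function.Injective (algebraMap R R'))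
    [CharZero (IsLocalRing.ResidueField R)]
    (K' Ω' : Type u) [Field K'] [Algebra R' K'] [IsFractionRing R' K'] [Field Ω'] [Algebra K' Ω'] [IsSepClosure K' Ω']
    [Algebra R' Ω'] [IsScalarTower R' K' Ω'] [Algebra Ω Ω'] [Algebra R Ω'] [IsScalarTower R Ω Ω']
    [IsScalarTower R R' Ω']
    {X : Scheme.{u}} (f : X ⟶ Spec (CommRingCat.of R))

/-- The morphism of special fibres. -/
def spMap : spFib R' (bcf R' f) ⟶ spFib R f :=
  pullback.lift (icl R' (bcf R' f) ≫ bcπ R' f)
    (spStr R' (bcf R' f) ≫ Spec.map (CommRingCat.ofHom (IsLocalRing.ResidueField.map (algebraMap R R'))))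
    (by
      have h1 : Spec.map (CommRingCat.ofHom (IsLocalRing.ResidueField.map (algebraMap R R'))) ≫ toSk R =
          toSk R' ≫ toS R R' := by
        rw [← Spec.map_comp, ← Spec.map_comp, ← CommRingCat.ofHom_comp, ← CommRingCat.ofHom_comp,
          IsLocalRing.ResidueField.map_comp_residue]
      rw [Category.assoc, Category.assoc, h1, pullback.condition, pullback.condition_assoc])

theorem spMap_icl : spMap R R' f ≫ icl R f = icl R' (bcf R' f) ≫ bcπ R' f := pullback.lift_fst _ _ _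

include K K' hR hR' hinj in
/-- The change of trait morphism of nearby cycles is an isomorphism in residue characteristic zero. -/
theorem main (F : EtCoh.Ab (VanCyc.fib R f Ω)) (hF : EtCoh.IsTorsion F)
    [PreservesFiniteLimits (EtCoh.pull (VanCyc.geomChange R' Ω Ω' f))]
    [PreservesFiniteLimits (EtCoh.pull (VanCyc.bcπ R' f))]
    [PreservesFiniteLimits (EtCoh.pull (VanCyc.icl R' (VanCyc.bcf R' f)))]
    [DCoh.HasRpushEt (VanCyc.fib R f Ω) (VanCyc.jA R f Ω)]
    [DCoh.HasRpushEt (VanCyc.fib R' (VanCyc.bcf R' f) Ω') (VanCyc.jA R' (VanCyc.bcf R' f) Ω')]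
    [DCoh.HasRpushEt (VanCyc.bcX R' f) (VanCyc.bcπ R' f)]
    (adj : EtBC.pullD (VanCyc.bcπ R' f) ⊣ DCoh.RpushEt (VanCyc.bcX R' f) (VanCyc.bcπ R' f)) :
    IsIso ((EtBC.pullD (VanCyc.icl R' (VanCyc.bcf R' f))).map
      (EtBC.bcMap (VanCyc.jA R f Ω) (VanCyc.bcπ R' f) (VanCyc.jA R' (VanCyc.bcf R' f) Ω') (VanCyc.geomChange R' Ω Ω' f)
        (VanCyc.geomChange_jA R' Ω Ω' f) adj (EtBC.single (VanCyc.fib R f Ω) F))) := by
  obtain ⟨R₁, _, _, _, a, b, c, hba, hca, hbc, haI, hainj, hres, hreg, hpo⟩ :=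
    Ram.exists_ram R K Ω hR R' hR' hinj K' Ω'
  -- geometry
  let j1 := TraitGeo.j1 Ω f a c hca
  let p := TraitGeo.p R' f a b hba
  have hsq : IsPullback (geomChange R' Ω Ω' f) (jA R' (bcf R' f) Ω') j1 p :=
    TraitGeo.isPullback_geomChange R' Ω Ω' f a b c hba hca hbc hpo
  have hj1 : IsPullback j1 (fibStr R f Ω) (TraitGeo.b1 a f) (Spec.map (CommRingCat.ofHom c)) :=
    TraitGeo.isPullback_j1 Ω f a c hca
  have hqc : QuasiCompact j1 := MorphismProperty.of_isPullback hj1.flip inferInstance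
  have hqs : QuasiSeparated j1 := MorphismProperty.of_isPullback hj1.flip inferInstance
  have hp := TraitGeo.isPullback_p R' f a b hba
  have hunit : ∀ n : ℕ, n ≠ 0 → IsUnit (n : R₁) := fun n hn => by
    have := (RegDvr.isUnit_natCast (A := R) hn).map a
    rwa [map_natCast] at this
  -- base change for torsion sheaves
  have hbcAt : ∀ J : EtCoh.Ab (fib R f Ω), EtCoh.IsTorsion J → BCAt j1 J p := by
    intro J hJ
    let _ : Algebra R₁ R' := b.toAlgebra
    exact PopLim.bcAt_of_isRegularHom hreg (TraitGeo.b1 a f) p (bcf R' f) hp j1 J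
      (isTorsionInvertibleOn hunit (TraitGeo.b1 a f) J hJ)
  -- torsion resolution
  obtain ⟨I, hI, hinjI, -, ⟨e⟩⟩ := exists_torsion_resolution
    (fun I _ => InjDiv.isDivisible_of_injective I) (EtBC.single (fib R f Ω) F) 0 inferInstance
    (fun n => isZero_rat_of_isTorsion _ (isTorsion_HDEt_single F hF n))
  have hGE := isStrictlyGE_tor I 0
  refine DerCrit.isIso_pullD_bcMap _ _ _ _ _ _ adj _
    ((tor.mapHomologicalComplex (ComplexShape.up ℤ)).obj I) 0 ⟨e.symm⟩ ?_ ?_ ?_
  · intro n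
    have := hinjI n
    exact DCompEt.isAcyc_push_tor (jA R f Ω) (I.X n)
  · intro n
    have := hinjI n
    exact isAcyc_pull_of_bcAt hsq _ (DCompEt.isAcyc_push_tor j1 (I.X n))
      (hbcAt _ (isTorsion_tor (I.X n)))
  · intro n
    have hint := TraitGeo.isIntegralHom_π1 a f haI
    have h0 : IsPullback (pullback.fst (TraitGeo.π1 a f) (icl R f)) (pullback.snd (TraitGeo.π1 a f) (icl R f))
      (TraitGeo.π1 a f) (icl R f) := IsPullback.of_hasPullback _ _
    have hs := TraitGeo.surjective_q0 a f h0 haI hainj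
    have hu := TraitGeo.universallyInjective_q0 a f h0 haI hres
    exact UHBc.isIso_pull_baseChange0 h0 (spMap_icl R R' f) (TraitGeo.j1_π1 Ω f a c hca)
      (TraitGeo.p_π1 R' f a b hba) (geomChange_jA R' Ω Ω' f) hsq.w _
      (hbcAt _ (isTorsion_tor (I.X n)) _ _ hsq).2

end

end Groth.Agent.Vancyc.H698.Main
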