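import Groth.Agent.Etbc.H185.BcMap

/-!
# The derived base change morphism after a further inverse image

`isIso_pullD_bcMap`: for a commutative square `w : g' ≫ f = f' ≫ g`, a morphism `i : Z ⟶ Y'`, any
adjunction `adj`, and a bounded below complex `T` of `f_*`-acyclic sheaves such that `g'⁻¹ T` is
`f'_*`-acyclic and `i⁻¹ (baseChange0 (T^n))` is an isomorphism for all `n`, the morphism
`i⁻¹ (EtBC.bcMap f g f' g' w adj K)` is an isomorphism for `K ≅ Q T`.
-/

set_option autoImplicit false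
universe u

open CategoryTheory CategoryTheory.Limits Opposite AlgebraicGeometry

attribute [local instance] HasDerivedCategory.standard

noncomputable section
namespace Groth.Agent.Vancyc.H698.DerCrit

open Groth.Agent.Etrest Groth.Agent.Etrest.RDer2 Groth.Agent.Etrest.RDer3 Groth.Agent.Etrest.RDer4
  Groth.Agent.Etrest.DEtPush Groth.Agent.EtpbcB Groth.Agent.Etbc.H185

section abstract

universe w w' w'' w''' w₅ v v' v'' v''' v₅ u' u'' u''' u₄ u₅

variable {A : Type u} [Category.{v} A] [Abelian A] [HasDerivedCategory.{w} A] [HasKInj A]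
  {B : Type u'} [Category.{v'} B] [Abelian B] [HasDerivedCategory.{w'} B]
  {A₂ : Type u''} [Category.{v''} A₂] [Abelian A₂] [HasDerivedCategory.{w''} A₂] [HasKInj A₂]
  {B₂ : Type u'''} [Category.{v'''} B₂] [Abelian B₂] [HasDerivedCategory.{w'''} B₂]
  {C : Type u₅} [Category.{v₅} C] [Abelian C] [HasDerivedCategory.{w₅} C]
  {G : A ⥤ B} [G.Additive] {G₂ : A₂ ⥤ B₂} [G₂.Additive]
  {E : A ⥤ A₂} [E.Additive] [PreservesFiniteLimits E] [PreservesFiniteColimits E]
  {E' : B ⥤ B₂} [E'.Additive] [PreservesFiniteLimits E'] [PreservesFiniteColimits E']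
  (bc : G ⋙ E' ⟶ E ⋙ G₂)
  (I : B₂ ⥤ C) [I.Additive] [PreservesFiniteLimits I] [PreservesFiniteColimits I]

/-- An exact functor sends a morphism of complexes which becomes an isomorphism termwise to an
isomorphism in the derived category. -/
theorem isIso_map_Q {K L : CochainComplex B₂ ℤ} (φ : K ⟶ L) (h : ∀ i, IsIso (I.map (φ.f i))) :
    IsIso (I.mapDerivedCategory.map (DerivedCategory.Q.map φ)) := by
  have h1 := I.mapDerivedCategoryFactors.hom.naturality φ
  have h2 : IsIso ((I.mapHomologicalComplex (.up ℤ)).map φ) := by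
    have : ∀ i, IsIso (((I.mapHomologicalComplex (.up ℤ)).map φ).f i) := h
    exact HomologicalComplex.Hom.isIso_of_components _
  have h3 : IsIso ((I.mapHomologicalComplex (.up ℤ) ⋙ DerivedCategory.Q).map φ) := by
    dsimp
    infer_instance
  have h4 : IsIso ((DerivedCategory.Q ⋙ I.mapDerivedCategory).map φ ≫
      I.mapDerivedCategoryFactors.hom.app L) := by
    rw [h1]
    infer_instance
  exact IsIso.of_isIso_comp_right ((DerivedCategory.Q ⋙ I.mapDerivedCategory).map φ)
    (I.mapDerivedCategoryFactors.hom.app L)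

theorem isIso_map_bcD_Q (K : CochainComplex A ℤ) (h1 : IsIso ((unitQ G).app K))
    (h2 : IsIso ((unitQ G₂).app ((E.mapHomologicalComplex (.up ℤ)).obj K)))
    (h3 : ∀ i, IsIso (I.map (bc.app (K.X i)))) :
    IsIso (I.mapDerivedCategory.map ((bcD bc).app (DerivedCategory.Q.obj K))) := by
  have h4 := congrArg I.mapDerivedCategory.map (bcD_fac bc K)
  rw [Functor.map_comp, Functor.map_comp, Functor.map_comp, Functor.map_comp] at h4
  have h5 : IsIso (I.mapDerivedCategory.map (DerivedCategory.Q.map ((bcCx bc).app K))) :=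
    isIso_map_Q I _ h3
  have h6 : IsIso (I.mapDerivedCategory.map (E'.mapDerivedCategory.map ((unitQ G).app K)) ≫
      I.mapDerivedCategory.map ((bcD bc).app (DerivedCategory.Q.obj K))) := by
    rw [h4]
    refine IsIso.comp_isIso' inferInstance (IsIso.comp_isIso' h5
      (IsIso.comp_isIso' inferInstance ?_))
    exact inferInstanceAs (IsIso (I.mapDerivedCategory.map ((TR G₂).map _)))
  exact IsIso.of_isIso_comp_left (I.mapDerivedCategory.map (E'.mapDerivedCategory.map ((unitQ G).app K))) _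

theorem isIso_map_bcD_of_iso {K L : DerivedCategory A} (e : K ≅ L)
    (h : IsIso (I.mapDerivedCategory.map ((bcD bc).app K))) :
    IsIso (I.mapDerivedCategory.map ((bcD bc).app L)) := by
  have h1 := congrArg I.mapDerivedCategory.map ((bcD bc).naturality e.hom)
  rw [Functor.map_comp, Functor.map_comp] at h1
  have h2 : IsIso (I.mapDerivedCategory.map ((TR G ⋙ E'.mapDerivedCategory).map e.hom) ≫
      I.mapDerivedCategory.map ((bcD bc).app L)) := by
    rw [h1]; infer_instance
  exact IsIso.of_isIso_comp_left (I.mapDerivedCategory.map ((TR G ⋙ E'.mapDerivedCategory).map e.hom)) _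

end abstract

variable {X Y X' Y' Z : Scheme.{u}} (f : X ⟶ Y) (g : Y' ⟶ Y) (f' : X' ⟶ Y') (g' : X' ⟶ X)
  (w : g' ≫ f = f' ≫ g) (i : Z ⟶ Y')

variable [PreservesFiniteLimits (EtCoh.pull g)] [PreservesFiniteLimits (EtCoh.pull g')]
    [PreservesFiniteLimits (EtCoh.pull i)]
    [DCoh.HasRpushEt X f] [DCoh.HasRpushEt X' f'] [DCoh.HasRpushEt Y' g]

theorem isIso_pullD_bcMap_iff (adj : EtBC.pullD g ⊣ DCoh.RpushEt Y' g) (K : DCoh.DEt X) :
    IsIso ((EtBC.pullD i).map (EtBC.bcMap f g f' g' w adj K)) ↔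
      IsIso ((EtBC.pullD i).map ((bcEt w).app K)) :=
  BcMap.bcMap_iff f g f' g' w ((MorphismProperty.isomorphisms _).inverseImage (EtBC.pullD i)) adj K

theorem isIso_pullD_bcMap (adj : EtBC.pullD g ⊣ DCoh.RpushEt Y' g) (K : DCoh.DEt X)
    (T : CochainComplex (EtCoh.Ab X) ℤ) (a : ℤ) [T.IsStrictlyGE a]
    (e : Nonempty (DerivedCategory.Q.obj T ≅ K)) (h1 : ∀ n, IsAcyc (EtCoh.push f) (T.X n))
    (h2 : ∀ n, IsAcyc (EtCoh.push f') ((EtCoh.pull g').obj (T.X n)))
    (h3 : ∀ n, IsIso ((EtCoh.pull i).map (EtCoh.baseChange0 f g f' g' w (T.X n)))) :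
    IsIso ((EtBC.pullD i).map (EtBC.bcMap f g f' g' w adj K)) := by
  obtain ⟨e⟩ := e
  rw [isIso_pullD_bcMap_iff]
  refine isIso_map_bcD_of_iso _ (EtCoh.pull i) e ?_
  exact isIso_map_bcD_Q _ (EtCoh.pull i) T (isIso_unitQ_of_isAcyc _ T a h1)
    (isIso_unitQ_of_isAcyc _ (((EtCoh.pull g').mapHomologicalComplex (.up ℤ)).obj T) a h2) h3

end Groth.Agent.Vancyc.H698.DerCrit
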