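import Groth.Prelude.Def_Found
import Mathlib.RingTheory.LocalRing.ResidueField.Fiber
import Mathlib.RingTheory.Flat.TorsionFree
import Mathlib.RingTheory.Flat.FaithfullyFlat.Algebra
import Mathlib.RingTheory.DiscreteValuationRing.TFAE
import Mathlib.RingTheory.RegularLocalRing.Defs
import Mathlib.RingTheory.Unramified.Field
import Mathlib.RingTheory.Artinian.Ring
import Mathlib.RingTheory.LocalProperties.Reduced
import Mathlib.RingTheory.DedekindDomain.Dvr

/-!
# Weakly unramified extensions of discrete valuation rings of residue characteristic zero are regular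

`isRegularHom_of_irreducible`: `A → B` an injective homomorphism of discrete valuation rings sending a
uniformizer to a uniformizer, `A` of residue characteristic zero; then `CAlg.IsRegularHom A B`.
-/

set_option autoImplicit false
set_option linter.unusedSectionVars false
universe u

namespace Groth.Agent.Vancyc.H698.RegDvr

open TensorProduct IsLocalRing

/-- A reduced Artinian ring is regular. -/
theorem isRegularRing_of_isArtinianRing (R : Type u) [CommRing R] [IsArtinianRing R] [IsReduced R] :
    IsRegularRing R := by
  rw [isRegularRing_iff]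
  intro p hp
  have hf : IsField (Localization.AtPrime p) := by
    have : IsArtinianRing (Localization.AtPrime p) := inferInstance
    exact IsArtinianRing.isField_of_isReduced_of_isLocalRing _
  let _ := hf.toField
  infer_instance

/-- A field extension in characteristic zero is geometrically regular. -/
theorem isGeometricallyRegular_of_charZero (k F : Type u) [Field k] [CharZero k] [CommRing F] [Algebra k F]
    (hF : IsField F) : CAlg.IsGeometricallyRegular k F := by
  let _ := hF.toField
  intro k' _ _ _
  have : Algebra.FormallyUnramified k k' := Algebra.FormallyUnramified.of_isSeparable k k'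
  have : Algebra.FormallyUnramified F (F ⊗[k] k') := inferInstance
  have : Module.Finite F (F ⊗[k] k') := inferInstance
  have : IsReduced (F ⊗[k] k') := Algebra.FormallyUnramified.isReduced_of_field F (F ⊗[k] k')
  have : IsArtinianRing (F ⊗[k] k') := IsArtinianRing.of_finite F _
  have := isRegularRing_of_isArtinianRing (F ⊗[k] k')
  exact IsRegularRing.of_ringEquiv (Algebra.TensorProduct.comm k F k').toRingEquiv

/-- In a local ring with residue field of characteristic zero all nonzero integers are units. -/
theorem isUnit_natCast {A : Type*} [CommRing A] [IsLocalRing A] [CharZero (ResidueField A)] {n : ℕ}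
    (hn : n ≠ 0) : IsUnit (n : A) := by
  rw [← not_not (a := IsUnit _), ← mem_nonunits_iff, ← mem_maximalIdeal, ← residue_eq_zero_iff,
    map_natCast, Nat.cast_eq_zero]
  exact hn

theorem charZero_of_algebra {A k : Type*} [CommRing A] [IsLocalRing A] [CharZero (ResidueField A)]
    [Field k] (φ : A →+* k) : CharZero k := by
  refine charZero_of_inj_zero fun n hn => ?_
  by_contra h
  have h1 := (isUnit_natCast (A := A) h).map φ
  rw [map_natCast, hn] at h1
  exact not_isUnit_zero h1

section

variable {A B : Type u} [CommRing A] [IsDomain A] [IsDiscreteValuationRing A] [CommRing B] [IsDomain B]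
  [IsDiscreteValuationRing B] [Algebra A B] {π : A}

theorem isLocalHom_of_irreducible (hπ : Irreducible π) (h : Irreducible (algebraMap A B π)) :
    IsLocalHom (algebraMap A B) := by
  constructor
  intro a ha
  by_contra hna
  have h1 : a ∈ maximalIdeal A := hna
  rw [hπ.maximalIdeal_eq, Ideal.mem_span_singleton] at h1
  exact h.not_isUnit (isUnit_of_dvd_unit (map_dvd _ h1) ha)

theorem flat_of_injective (hinj : Function.Injective (algebraMap A B)) : Module.Flat A B := by
  rw [IsDedekindDomain.flat_iff_torsion_eq_bot]
  have : FaithfulSMul A B := (faithfulSMul_iff_algebraMap_injective A B).2 hinj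
  rw [eq_bot_iff]
  intro x hx
  obtain ⟨a, ha⟩ := hx
  rw [Submonoid.smul_def, Algebra.smul_def, mul_eq_zero] at ha
  rcases ha with ha | ha
  · exact absurd (hinj (ha.trans (map_zero _).symm)) (nonZeroDivisors.ne_zero a.2)
  · exact ha

/-- The fibres of a weakly unramified extension of discrete valuation rings are fields. -/
theorem isField_fiber (hinj : Function.Injective (algebraMap A B)) (hπ : Irreducible π)
    (h : Irreducible (algebraMap A B π)) (p : Ideal A) [p.IsPrime] : IsField (p.Fiber B) := by
  have hloc := isLocalHom_of_irreducible hπ h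
  have hflat := flat_of_injective hinj
  have : Module.FaithfullyFlat A B := Module.FaithfullyFlat.of_flat_of_isLocalHom
  have : Nontrivial (p.Fiber B) := Module.FaithfullyFlat.rTensor_nontrivial A B _
  have key : ∀ s : B, (1 ⊗ₜ[A] s : p.Fiber B) = 0 ∨ IsUnit (1 ⊗ₜ[A] s : p.Fiber B) := by
    intro s
    rcases eq_or_ne s 0 with rfl | hs
    · left; exact TensorProduct.tmul_zero _ _
    · obtain ⟨n, u, rfl⟩ := IsDiscreteValuationRing.eq_unit_mul_pow_irreducible hs h
      have h1 : (1 ⊗ₜ[A] ((u : B) * algebraMap A B π ^ n) : p.Fiber B) =
          (1 ⊗ₜ[A] (u : B)) * ((algebraMap A p.ResidueField π ^ n) ⊗ₜ[A] 1) := by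
        rw [Algebra.TensorProduct.tmul_mul_tmul, one_mul, mul_one, ← map_pow, ← map_pow,
          Algebra.algebraMap_eq_smul_one (A := p.ResidueField), TensorProduct.smul_tmul,
          Algebra.smul_def, mul_comm]
      rw [h1]
      rcases eq_or_ne (algebraMap A p.ResidueField π ^ n) 0 with h2 | h2
      · left
        rw [h2, TensorProduct.zero_tmul, mul_zero]
      · right
        refine IsUnit.mul ?_ ?_
        · exact u.isUnit.map (Algebra.TensorProduct.includeRight : B →ₐ[A] p.Fiber B)
        · exact (isUnit_iff_ne_zero.2 h2).map
            (Algebra.TensorProduct.includeLeft : p.ResidueField →ₐ[A] p.Fiber B)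
  refine ⟨exists_pair_ne _, mul_comm, fun {x} hx => ?_⟩
  obtain ⟨r, hr, s, hs⟩ := Ideal.Fiber.exists_smul_eq_one_tmul p x
  have hr' : IsUnit (algebraMap A (p.Fiber B) r) := by
    have h3 : algebraMap A p.ResidueField r ≠ 0 := by
      rwa [Ne, Ideal.algebraMap_residueField_eq_zero]
    rw [IsScalarTower.algebraMap_apply A p.ResidueField (p.Fiber B)]
    exact (isUnit_iff_ne_zero.2 h3).map _
  rcases key s with h0 | h0
  · exfalso
    apply hx
    rw [h0, Algebra.smul_def, hr'.mul_right_eq_zero] at hs
    exact hs
  · rw [← hs, Algebra.smul_def, IsUnit.mul_iff] at h0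
    obtain ⟨y, hy⟩ := h0.2.exists_right_inv
    exact ⟨y, hy⟩

theorem isRegularHom_of_irreducible [CharZero (ResidueField A)]
    (hinj : Function.Injective (algebraMap A B)) (hπ : Irreducible π)
    (h : Irreducible (algebraMap A B π)) : CAlg.IsRegularHom A B := by
  refine ⟨flat_of_injective hinj, fun p _ => ?_⟩
  have hf := isField_fiber hinj hπ h p
  have : CharZero p.ResidueField := charZero_of_algebra (algebraMap A p.ResidueField)
  refine ⟨?_, isGeometricallyRegular_of_charZero _ _ hf⟩
  let _ := hf.toField
  infer_instance

end

end Groth.Agent.Vancyc.H698.RegDvr
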