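import Groth.Agent.Sga4h.TameExt
import Groth.Agent.Vancyc.H698.RegDvr

/-!
# Kummer theory of strictly henselian discrete valuation rings of residue characteristic zero

* `exists_root_lift`: `n`-th roots in an extension of a separably closed field.
* `exists_adjoin_eq_top`: a finite extension of degree `n` of the fraction field is `K(π^{1/n})`.
* `bijective_lift`: for a weakly unramified extension `A → A'` the separable closures satisfy
  `Ω' = A' ⊗_A Ω`.
-/

set_option autoImplicit false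
set_option linter.unusedSectionVars false
universe u

namespace Groth.Agent.Vancyc.H698.KumRing

open TensorProduct IsLocalRing Polynomial IntermediateField

open Groth.Agent.Sga4h Groth.Agent.Vancyc.H698.RegDvr

/-- `n`-th roots of elements of a separably closed field lie in it. -/
theorem exists_root_lift {Ω Ω' : Type*} [Field Ω] [Field Ω'] [Algebra Ω Ω'] [IsSepClosed Ω] {n : ℕ}
    (hn : (n : Ω) ≠ 0) {a : Ω} (ha : a ≠ 0) {y : Ω'} (hy : y ^ n = algebraMap Ω Ω' a) :
    ∃ x : Ω, algebraMap Ω Ω' x = y ∧ x ^ n = a := by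
  have hn0 : n ≠ 0 := by
    rintro rfl
    simp at hn
  have hs : (X ^ n - C a : Polynomial Ω).Separable := separable_X_pow_sub_C a hn ha
  have h1 : (X ^ n - C a : Polynomial Ω).Splits := IsSepClosed.splits_of_separable _ hs
  have h2 : ((X ^ n - C a : Polynomial Ω).map (algebraMap Ω Ω)).Splits := by
    rwa [Algebra.algebraMap_self, Polynomial.map_id]
  have h3 : y ∈ (X ^ n - C a : Polynomial Ω).rootSet Ω' := by
    rw [Polynomial.mem_rootSet]
    refine ⟨(monic_X_pow_sub_C a hn0).ne_zero, ?_⟩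
    simp [hy]
  rw [← h2.image_rootSet (Algebra.ofId Ω Ω')] at h3
  obtain ⟨x, -, hx⟩ := h3
  refine ⟨x, hx, (algebraMap Ω Ω').injective ?_⟩
  rw [map_pow]
  rw [show algebraMap Ω Ω' x = y from hx, hy]

section

variable (R K L : Type u) [CommRing R] [IsDomain R] [IsDiscreteValuationRing R]
  [Field K] [Algebra R K] [IsFractionRing R K]
  [Field L] [Algebra K L] [Algebra R L] [IsScalarTower R K L] [FiniteDimensional K L]
  (hR : EtCoh.IsStrictlyHenselianLocalRing R) [CharZero (ResidueField R)]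

include hR in
/-- Finite extensions of `K` are of Kummer type. -/
theorem exists_adjoin_eq_top {π : R} (hπ : Irreducible π) :
    ∃ y : L, y ^ (Module.finrank K L) = algebraMap R L π ∧ K⟮y⟯ = ⊤ := by
  have hK : CharZero K := charZero_of_algebra (algebraMap R K)
  have hn : Module.finrank K L ≠ 0 := (Module.finrank_pos (R := K) (M := L)).ne'
  obtain ⟨y, hy⟩ := TameExt.exists_pow_eq R K L hR (isUnit_natCast hn) hπ
  refine ⟨y, hy, ?_⟩
  have h1 := TameExt.finrank_adjoin_root R K L hn hπ hy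
  apply IntermediateField.eq_of_le_of_finrank_eq le_top
  rw [h1, IntermediateField.finrank_top']

end

section D

variable {A K Ω : Type u} [CommRing A] [IsDomain A] [IsDiscreteValuationRing A]
  [Field K] [Algebra A K] [IsFractionRing A K] [Field Ω] [Algebra K Ω] [Algebra A Ω]
  [IsScalarTower A K Ω] {π : A} (hπ : Irreducible π)

/-- `π ^ N ω ∈ A[z]`. -/
def Den (π : A) (z ω : Ω) : Prop := ∃ (N : ℕ) (p : A[X]), algebraMap A Ω π ^ N * ω = aeval z p

theorem den_add {z ω ω' : Ω} (h : Den π z ω) (h' : Den π z ω') : Den π z (ω + ω') := by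
  obtain ⟨N, p, hp⟩ := h
  obtain ⟨M, q, hq⟩ := h'
  refine ⟨N + M, C (π ^ M) * p + C (π ^ N) * q, ?_⟩
  rw [map_add, map_mul, map_mul, ← hp, ← hq, aeval_C, aeval_C, map_pow, map_pow]
  ring

theorem den_mul {z ω ω' : Ω} (h : Den π z ω) (h' : Den π z ω') : Den π z (ω * ω') := by
  obtain ⟨N, p, hp⟩ := h
  obtain ⟨M, q, hq⟩ := h'
  refine ⟨N + M, p * q, ?_⟩
  rw [map_mul, ← hp, ← hq]
  ring

theorem den_self (z : Ω) : Den π z z := ⟨0, X, by simp⟩

include hπ in
variable (K) in
theorem den_algebraMap (z : Ω) (k : K) : Den π z (algebraMap K Ω k) := by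
  obtain ⟨a, b, hb, rfl⟩ := IsFractionRing.div_surjective (A := A) k
  obtain ⟨m, u, hu⟩ := IsDiscreteValuationRing.eq_unit_mul_pow_irreducible
    (nonZeroDivisors.ne_zero hb) hπ
  refine ⟨m, C (a * ((u⁻¹ : Aˣ) : A)), ?_⟩
  have hinj : Function.Injective (algebraMap A Ω) := by
    rw [IsScalarTower.algebraMap_eq A K Ω]
    exact (algebraMap K Ω).injective.comp (IsFractionRing.injective A K)
  have hb0 : algebraMap A Ω b ≠ 0 := by
    rw [map_ne_zero_iff _ hinj]
    exact nonZeroDivisors.ne_zero hb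
  rw [aeval_C, map_div₀, ← IsScalarTower.algebraMap_apply, ← IsScalarTower.algebraMap_apply,
    mul_div_assoc', div_eq_iff hb0, ← map_pow, ← map_mul, ← map_mul]
  congr 1
  rw [hu]
  have : (u : A) * ((u⁻¹ : Aˣ) : A) = 1 := u.mul_inv
  linear_combination (-(a * π ^ m)) * this

theorem mem_of_adj {z x : Ω} (hz : IsIntegral K z) (hx : x ∈ Algebra.adjoin K {z}) : x ∈ K⟮z⟯ := by
  have h2 := IntermediateField.adjoin_simple_toSubalgebra_of_isAlgebraic hz.isAlgebraic
  rw [← h2] at hx
  exact hx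

include hπ in
variable (K) in
theorem den_of_mem {z ω : Ω} (hz : IsIntegral K z) (h : ω ∈ K⟮z⟯) : Den π z ω := by
  have h1 : ω ∈ K⟮z⟯.toSubalgebra := h
  rw [IntermediateField.adjoin_simple_toSubalgebra_of_isAlgebraic hz.isAlgebraic] at h1
  induction h1 using Algebra.adjoin_induction with
  | mem x hx =>
    rw [Set.mem_singleton_iff] at hx
    subst hx
    exact den_self x
  | algebraMap r => exact den_algebraMap K hπ z r
  | add x y hx hy h1 h2 => exact den_add (h1 (mem_of_adj hz hx)) (h2 (mem_of_adj hz hy))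
  | mul x y hx hy h1 h2 => exact den_mul (h1 (mem_of_adj hz hx)) (h2 (mem_of_adj hz hy))

theorem Den.map {Ω₂ : Type u} [Field Ω₂] [Algebra A Ω₂] (φ : Ω →ₐ[A] Ω₂) {z ω : Ω} (h : Den π z ω) :
    Den π (φ z) (φ ω) := by
  obtain ⟨N, p, hp⟩ := h
  refine ⟨N, p, ?_⟩
  rw [aeval_algHom_apply, ← hp, map_mul, map_pow, AlgHom.commutes]

end D

section finite

variable {A K Ω : Type u} [CommRing A] [IsDomain A] [IsDiscreteValuationRing A]
  [Field K] [Algebra A K] [IsFractionRing A K] [Field Ω] [Algebra K Ω] [Algebra A Ω]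
  [IsScalarTower A K Ω] {π : A} (hπ : Irreducible π) (hA : EtCoh.IsStrictlyHenselianLocalRing A)
  [CharZero (ResidueField A)]

include hπ hA in
variable (K) in
/-- Every finite set of algebraic elements has denominators a power of `π` over some `A[π^{1/n}]`. -/
theorem exists_den (S : Set Ω) (hS : S.Finite) (hS' : ∀ x ∈ S, IsIntegral K x) :
    ∃ (n : ℕ) (z : Ω), n ≠ 0 ∧ z ^ n = algebraMap A Ω π ∧ ∀ x ∈ S, Den π z x := by
  let M : IntermediateField K Ω := IntermediateField.adjoin K S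
  have : Finite S := hS
  have : FiniteDimensional K M := IntermediateField.finiteDimensional_adjoin hS'
  have : IsScalarTower A M Ω := IsScalarTower.of_algebraMap_eq fun r => by
    rw [IsScalarTower.algebraMap_apply A K Ω, IsScalarTower.algebraMap_apply A K M]
    rfl
  obtain ⟨y, hy, htop⟩ := exists_adjoin_eq_top A K M hA hπ
  refine ⟨Module.finrank K M, (y : Ω), (Module.finrank_pos (R := K) (M := M)).ne', ?_, fun x hx => ?_⟩
  · have := congrArg (algebraMap M Ω) hy
    rwa [map_pow, ← IsScalarTower.algebraMap_apply] at this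
  · have hxM : x ∈ M := IntermediateField.subset_adjoin K S hx
    have h1 : Den π y (⟨x, hxM⟩ : M) :=
      den_of_mem K hπ (Algebra.IsIntegral.isIntegral y) (by rw [htop]; trivial)
    exact h1.map (IsScalarTower.toAlgHom A M Ω)

end finite

section lift

variable (A K Ω A' K' Ω' : Type u) [CommRing A] [IsDomain A] [IsDiscreteValuationRing A]
  [Field K] [Algebra A K] [IsFractionRing A K] [Field Ω] [Algebra K Ω] [Algebra A Ω]
  [IsScalarTower A K Ω] [CommRing A'] [IsDomain A'] [IsDiscreteValuationRing A'] [Field K']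
  [Algebra A' K'] [IsFractionRing A' K'] [Field Ω'] [Algebra K' Ω'] [Algebra A' Ω']
  [IsScalarTower A' K' Ω'] [Algebra A A'] [Algebra Ω Ω'] [Algebra A Ω'] [IsScalarTower A A' Ω']
  [IsScalarTower A Ω Ω']

/-- The multiplication map `A' ⊗ Ω → Ω'`. -/
noncomputable def liftMap : A' ⊗[A] Ω →ₐ[A'] Ω' :=
  Algebra.TensorProduct.lift (Algebra.ofId A' Ω') (IsScalarTower.toAlgHom A Ω Ω')
    (fun _ _ => Commute.all _ _)

theorem liftMap_tmul (a : A') (ω : Ω) :
    liftMap A Ω A' Ω' (a ⊗ₜ ω) = algebraMap A' Ω' a * algebraMap Ω Ω' ω := by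
  rw [liftMap, Algebra.TensorProduct.lift_tmul]
  rfl

variable (hA : EtCoh.IsStrictlyHenselianLocalRing A) (hA' : EtCoh.IsStrictlyHenselianLocalRing A')
  [CharZero (ResidueField A)] [CharZero (ResidueField A')]
  [IsSepClosed Ω] [Algebra.IsIntegral K Ω] [Algebra.IsIntegral K' Ω'] {π : A} (hπ : Irreducible π)
  (hπ' : Irreducible (algebraMap A A' π))

include K K' hA' hπ hπ' in
theorem surjective_liftMap : Function.Surjective (liftMap A Ω A' Ω') := by
  intro ω
  have hinj : Function.Injective (algebraMap A Ω) := by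
    rw [IsScalarTower.algebraMap_eq A K Ω]
    exact (algebraMap K Ω).injective.comp (IsFractionRing.injective A K)
  have hπ0 : algebraMap A Ω π ≠ 0 := by
    rw [map_ne_zero_iff _ hinj]
    exact hπ.ne_zero
  have e1 : algebraMap A' Ω' (algebraMap A A' π) = algebraMap Ω Ω' (algebraMap A Ω π) := by
    rw [← IsScalarTower.algebraMap_apply, ← IsScalarTower.algebraMap_apply]
  obtain ⟨n, z, hn, hz, hden⟩ := exists_den K' hπ' hA' {ω} (Set.finite_singleton ω)
    (fun x _ => Algebra.IsIntegral.isIntegral x)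
  obtain ⟨N, p, hp⟩ := hden ω rfl
  have hc : CharZero Ω := charZero_of_algebra (algebraMap A Ω)
  rw [e1] at hz
  obtain ⟨z₀, hz₀, -⟩ := exists_root_lift (Nat.cast_ne_zero.2 hn) hπ0 hz
  have h1 : ∃ y, liftMap A Ω A' Ω' y = aeval z p := by
    refine ⟨aeval (1 ⊗ₜ z₀) p, ?_⟩
    rw [← aeval_algHom_apply, liftMap_tmul, map_one, one_mul, hz₀]
  obtain ⟨y, hy⟩ := h1
  refine ⟨(1 ⊗ₜ ((algebraMap A Ω π)⁻¹ ^ N)) * y, ?_⟩
  rw [map_mul, hy, ← hp, liftMap_tmul, map_one, one_mul, map_pow, map_inv₀, e1, ← mul_assoc,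
    ← mul_pow, inv_mul_cancel₀, one_pow, one_mul]
  rwa [_root_.map_ne_zero]

variable {A} in
theorem algebraMap_eq (π : A) :
    algebraMap A' (A' ⊗[A] Ω) (algebraMap A A' π) = 1 ⊗ₜ algebraMap A Ω π := by
  rw [← IsScalarTower.algebraMap_apply A A' (A' ⊗[A] Ω)]
  exact ((Algebra.TensorProduct.includeRight : Ω →ₐ[A] A' ⊗[A] Ω).commutes π).symm

variable {A' Ω} in
/-- representation of an element of the tensor product -/
def Repr (π : A) (z : Ω) (x : A' ⊗[A] Ω) : Prop := ∃ (N : ℕ) (P : A'[X]),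
  algebraMap A' (A' ⊗[A] Ω) (algebraMap A A' π) ^ N * x = aeval (1 ⊗ₜ[A] z : A' ⊗[A] Ω) P

variable {A A' Ω} in
theorem Repr.add {z : Ω} {x y : A' ⊗[A] Ω} (h : Repr A π z x) (h' : Repr A π z y) :
    Repr A π z (x + y) := by
  obtain ⟨N, p, hp⟩ := h
  obtain ⟨M, q, hq⟩ := h'
  refine ⟨N + M, C (algebraMap A A' π ^ M) * p + C (algebraMap A A' π ^ N) * q, ?_⟩
  rw [map_add, map_mul, map_mul, ← hp, ← hq, aeval_C, aeval_C, map_pow, map_pow]
  ring

variable {A A' Ω} in
theorem repr_tmul {z ω : Ω} (a : A') (h : Den π z ω) : Repr A π z (a ⊗ₜ[A] ω) := by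
  obtain ⟨N, p, hp⟩ := h
  refine ⟨N, C a * p.map (algebraMap A A'), ?_⟩
  have h1 : aeval (1 ⊗ₜ[A] z : A' ⊗[A] Ω) (p.map (algebraMap A A')) = 1 ⊗ₜ aeval z p := by
    rw [aeval_map_algebraMap]
    exact aeval_algHom_apply (Algebra.TensorProduct.includeRight : Ω →ₐ[A] A' ⊗[A] Ω) z p
  rw [map_mul, h1, ← hp, aeval_C, algebraMap_eq, Algebra.TensorProduct.tmul_pow, one_pow,
    Algebra.TensorProduct.algebraMap_apply,
    Algebra.TensorProduct.tmul_mul_tmul, Algebra.TensorProduct.tmul_mul_tmul, one_mul, mul_one,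
    one_mul]
  rfl

include K K' hA hπ hπ' in
theorem injective_liftMap : Function.Injective (liftMap A Ω A' Ω') := by
  rw [injective_iff_map_eq_zero]
  intro x hx
  have hinj : Function.Injective (algebraMap A Ω) := by
    rw [IsScalarTower.algebraMap_eq A K Ω]
    exact (algebraMap K Ω).injective.comp (IsFractionRing.injective A K)
  have hπ0 : algebraMap A Ω π ≠ 0 := by
    rw [map_ne_zero_iff _ hinj]
    exact hπ.ne_zero
  have e1 : algebraMap A' Ω' (algebraMap A A' π) = algebraMap Ω Ω' (algebraMap A Ω π) := by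
    rw [← IsScalarTower.algebraMap_apply, ← IsScalarTower.algebraMap_apply]
  have e2 := algebraMap_eq Ω A' π
  obtain ⟨S, hS⟩ := TensorProduct.exists_finset x
  obtain ⟨n, z, hn, hz, hden⟩ := exists_den K hπ hA ((Prod.snd '' (S : Set (A' × Ω))))
    (S.finite_toSet.image _) (fun x _ => Algebra.IsIntegral.isIntegral x)
  have hrep : Repr A π z x := by
    rw [hS]
    refine Finset.sum_induction _ (Repr A π z) (fun a b ha hb => ha.add hb) ⟨0, 0, by simp⟩ ?_
    intro i hi
    exact repr_tmul i.1 (hden _ ⟨i, hi, rfl⟩)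
  obtain ⟨N, P, hP⟩ := hrep
  let f : A'[X] := X ^ n - C (algebraMap A A' π)
  have hf : f.Monic := monic_X_pow_sub_C _ hn
  let z' : Ω' := algebraMap Ω Ω' z
  have hz' : z' ^ n = algebraMap A' Ω' (algebraMap A A' π) := by
    rw [e1, ← hz, map_pow]
  have h0 : aeval z' P = 0 := by
    have := congrArg (liftMap A Ω A' Ω') hP
    rw [map_mul, hx, mul_zero, ← aeval_algHom_apply, liftMap_tmul, map_one, one_mul] at this
    exact this.symm
  have hfz : aeval z' f = 0 := by simp [f, hz']
  have hr0 : aeval z' (P %ₘ f) = 0 := by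
    have h2 := modByMonic_add_div P f
    rw [← h2, map_add, map_mul, hfz, zero_mul, add_zero] at h0
    exact h0
  have hmin : minpoly K' z' = X ^ n - C (algebraMap A' K' (algebraMap A A' π)) := by
    symm
    apply minpoly.eq_of_irreducible_of_monic (TameExt.irreducible_X_pow_sub_C K' hn hπ')
    · simp [hz', ← IsScalarTower.algebraMap_apply]
    · exact monic_X_pow_sub_C _ hn
  have hr : P %ₘ f = 0 := by
    have hinj' : Function.Injective (algebraMap A' K') := IsFractionRing.injective A' K'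
    rw [← Polynomial.map_eq_zero_iff hinj']
    by_contra hne
    have h3 : aeval z' ((P %ₘ f).map (algebraMap A' K')) = 0 := by
      rw [aeval_map_algebraMap]; exact hr0
    have h4 := minpoly.degree_le_of_ne_zero K' z' hne h3
    rw [hmin, degree_X_pow_sub_C (Nat.pos_of_ne_zero hn)] at h4
    have h5 := degree_modByMonic_lt P hf
    rw [show f.degree = n from degree_X_pow_sub_C (Nat.pos_of_ne_zero hn) _] at h5
    exact absurd (h4.trans (degree_map_le)) (not_le_of_gt h5)
  have hP0 : aeval (1 ⊗ₜ[A] z : A' ⊗[A] Ω) P = 0 := by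
    have h2 := modByMonic_add_div P f
    rw [← h2, hr, zero_add, map_mul]
    have h3 : aeval (1 ⊗ₜ[A] z : A' ⊗[A] Ω) f = 0 := by
      rw [map_sub, map_pow, aeval_X, aeval_C, e2, Algebra.TensorProduct.tmul_pow, one_pow, hz, sub_self]
    rw [h3, zero_mul]
  rw [hP0, e2] at hP
  have hu : IsUnit (1 ⊗ₜ[A] algebraMap A Ω π : A' ⊗[A] Ω) :=
    (isUnit_iff_ne_zero.2 hπ0).map (Algebra.TensorProduct.includeRight : Ω →ₐ[A] A' ⊗[A] Ω)
  exact (hu.pow N).mul_right_eq_zero.1 hP

include K K' hA hA' hπ hπ' in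
theorem bijective_liftMap : Function.Bijective (liftMap A Ω A' Ω') :=
  ⟨injective_liftMap A K Ω A' K' Ω' hA hπ hπ', surjective_liftMap A K Ω A' K' Ω' hA' hπ hπ'⟩

end lift

end Groth.Agent.Vancyc.H698.KumRing
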